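import Cfsg.Agent.Lib.F4PrimeGraph.Groups
import Cfsg.Agent.Lib.ChevCent.SylowTorusOrder
import Cfsg.Agent.Lib.ChevCent.CycTwelve

/-!
# Elements of order `r s` in F4 for large orders of `q` modulo `r` and `s`
-/

set_option autoImplicit false
set_option linter.unusedSectionVars false
set_option maxHeartbeats 800000

namespace CfsgLib.F4PrimeGraph

open Cfsg.Lie CfsgLib.Chev CfsgLib.ChevField CfsgLib.ChevCent Polynomial
open scoped Matrix

/-- all fundamental roots -/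
def allNodes : List (Fin chevF4.rank) :=
  [(⟨0, by decide⟩ : Fin chevF4.rank), ⟨1, by decide⟩, ⟨2, by decide⟩, ⟨3, by decide⟩]

theorem mem_allNodes : ∀ i : Fin chevF4.rank, i ∈ allNodes := by decide

/-- the inverse of the Cartan matrix -/
def invCartan : Fin chevF4.rank → Fin chevF4.rank → ℤ :=
  (![![2, 3, 4, 2], ![3, 6, 8, 4], ![2, 4, 6, 3], ![1, 2, 3, 2]] : Fin 4 → Fin 4 → ℤ)

theorem invCartan_spec : CartanInv chevF4 invCartan := by unfold CartanInv; decide +kernel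

theorem invCartan_adj : ∀ i j, ∑ k, invCartan i k * cm chevF4 k j = if i = j then ((1 : ℕ) : ℤ) else 0 :=
  fun i j => by rw [invCartan_spec i j, Nat.cast_one]

theorem large_of_order {q s : ℕ} [Fact s.Prime] (hs : 3 ≤ orderOf (q : ZMod s)) :
    5 ≤ s ∧ ¬ s ∣ q ∧ orderOf (q : ZMod s) ∣ s - 1 := by
  have h := (Fact.out : s.Prime)
  have hq0 : ¬ s ∣ q := fun hd => by
    rw [(ZMod.natCast_eq_zero_iff _ s).2 hd, orderOf_eq_zero_iff'.2 fun n hn => by simp [zero_pow hn.ne']] at hs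
    omega
  have hd := ZMod.orderOf_dvd_card_sub_one (a := (q : ZMod s)) fun h0 => hq0 ((ZMod.natCast_eq_zero_iff _ s).1 h0)
  have h1 : 0 < s - 1 := by have := h.two_le; omega
  have h2 := Nat.le_of_dvd h1 hd
  refine ⟨?_, hq0, hd⟩
  have h4 : s ≠ 4 := fun e => by rw [e] at h; norm_num at h
  omega

theorem not_dvd_weyl {T : Tabs} (hc : Checked chevF4 T) {s : ℕ} (hs : s.Prime) (h5 : 5 ≤ s) :
    ¬ s ∣ wsum hc allNodes 1 := by
  have e : polyEval [1, 1, 1, 1, 2, 2, 2, 2, 2, 2, 2, 2, 1, 1, 1, 1] 1 * polyEval [1, 1, 1, 2, 1, 1, 1] 1 *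
      polyEval [1, 1, 1] 1 * polyEval [1, 1] 1 = 2 ^ 7 * 3 ^ 2 := by decide +kernel
  rw [allNodes, wsum_F4 hc, e]
  intro h
  rcases hs.dvd_mul.1 h with h | h
  · have := Nat.le_of_dvd (by norm_num) (hs.dvd_of_dvd_pow h); omega
  · have := Nat.le_of_dvd (by norm_num) (hs.dvd_of_dvd_pow h); omega

theorem not_dvd_weyl_card {T : Tabs} (hc : Checked chevF4 T) {s : ℕ} (hs : s.Prime) (h5 : 5 ≤ s) :
    ¬ s ∣ Nat.card ↥(weylGrp hc) := by
  rw [card_weylGrp hc mem_allNodes]; exact not_dvd_weyl hc hs h5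

theorem not_dvd_twentyfour {s a : ℕ} (hs : s.Prime) (h5 : 5 ≤ s) (ha : a ∣ 24) : ¬ s ∣ a := by
  intro h
  rcases hs.dvd_mul.1 (show s ∣ 2 ^ 3 * 3 from h.trans ha) with h | h
  · have := Nat.le_of_dvd (by norm_num) (hs.dvd_of_dvd_pow h); omega
  · have := Nat.le_of_dvd (by norm_num) h; omega

theorem eval_cyclotomic_zero {q s d : ℕ} [Fact s.Prime] (hd : orderOf (q : ZMod s) = d) (hsd : ¬ s ∣ d) :
    (((cyclotomic d ℤ).eval (q : ℤ) : ℤ) : ZMod s) = 0 := by
  haveI : NeZero (d : ZMod s) := ⟨fun h => hsd ((ZMod.natCast_eq_zero_iff _ s).1 h)⟩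
  have h : IsRoot (cyclotomic d (ZMod s)) (q : ZMod s) :=
    isRoot_cyclotomic_iff.2 (hd ▸ IsPrimitiveRoot.orderOf (q : ZMod s))
  rw [← map_cyclotomic d (Int.castRingHom (ZMod s)), IsRoot] at h
  rw [← h, show (q : ZMod s) = ((q : ℤ) : ZMod s) by simp, Polynomial.eval_intCast_map]
  rfl

theorem order_of_eval_zero {q s d : ℕ} [Fact s.Prime] (hsd : ¬ s ∣ d)
    (h : (((cyclotomic d ℤ).eval (q : ℤ) : ℤ) : ZMod s) = 0) : orderOf (q : ZMod s) = d := by
  haveI : NeZero (d : ZMod s) := ⟨fun h => hsd ((ZMod.natCast_eq_zero_iff _ s).1 h)⟩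
  refine ((isRoot_cyclotomic_iff (R := ZMod s)).1 ?_).eq_orderOf.symm
  rw [← map_cyclotomic d (Int.castRingHom (ZMod s)), IsRoot, show (q : ZMod s) = ((q : ℤ) : ZMod s) by simp,
    Polynomial.eval_intCast_map]
  exact h

theorem dvd_extension {q s d : ℕ} [Fact s.Prime] (hq : 1 ≤ q) (hd : orderOf (q : ZMod s) ∣ d) : s ∣ q ^ d - 1 := by
  rw [← ZMod.natCast_eq_zero_iff, Nat.cast_sub (Nat.one_le_pow _ _ hq), Nat.cast_pow, Nat.cast_one,
    orderOf_dvd_iff_pow_eq_one.1 hd, sub_self]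

section
variable {T : Tabs} (hc : Checked chevF4 T) (hcomm : CommOne chevF4 T) {F : Type*} [Field F] [Fintype F]
include hc hcomm

/-- the centraliser of an element with `e = 8` or `12` has exponent dividing `Φ_e(q)` -/
theorem eval_zero_of_commute {q : ℕ} (hq : Fintype.card F = q) {s r d : ℕ} [Fact s.Prime] [Fact r.Prime]
    (hd : orderOf (q : ZMod s) = d) (hd' : d = 8 ∨ d = 12) {y z : ↥(chevF4.group F)} (hy : orderOf y = s)
    (hz : orderOf z = r) (hcom : Commute y z) : (((cyclotomic d ℤ).eval (q : ℤ) : ℤ) : ZMod r) = 0 := by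
  classical
  have hs := (Fact.out : s.Prime)
  have hd3 : 3 ≤ d := by omega
  obtain ⟨hs5, hsq, -⟩ := large_of_order (q := q) (s := s) (hd ▸ hd3)
  have hW := not_dvd_weyl_card hc hs hs5
  have hq1 : 1 < q := hq ▸ Fintype.one_lt_card
  obtain ⟨E, iE, iF, ι, σ, hfix, hσ, hE⟩ := exists_extension F (show 0 < d by omega)
  rw [hq] at hσ hE
  have hQ0 : q ^ d - 1 ≠ 0 := by have := Nat.one_lt_pow (show d ≠ 0 by omega) hq1; omega
  set k := (q ^ d - 1).factorization s
  have hk : 1 ≤ k := hs.factorization_pos_of_dvd hQ0 (dvd_extension hq1.le (by rw [hd]))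
  have hke : Fintype.card E - 1 = s ^ k * ((q ^ d - 1) / s ^ k) := by
    rw [hE, Nat.mul_div_cancel' (Nat.ordProj_dvd _ _)]
  have hys : y ^ s = 1 := by rw [← hy, pow_orderOf_eq_one]
  obtain ⟨g, hg, x, hxs, hxd, hgx⟩ := exists_torus_conj hc hcomm ι hke (Nat.not_dvd_ordCompl hs hQ0) hk
    (by rw [hE]; exact fun h => hsq (hs.dvd_of_dvd_pow h)) invCartan_adj hs.not_dvd_one mem_allNodes
    (not_dvd_weyl hc hs hs5) y.2 (by rw [← SubmonoidClass.coe_pow, hys, OneMemClass.coe_one])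
  have hσι : ∀ a, σ (ι a) = ι a := fun a => (hfix _).2 ⟨_, rfl⟩
  have hco : Nat.Coprime q s := (hs.coprime_iff_not_dvd.2 hsq).symm
  have hcx := twist_conj hc ι σ hσι hσ hgx
  have hcG : glMap chevF4 σ g * g⁻¹ ∈ chevF4.group E := mul_mem (glMap_group hc σ hg) (inv_mem hg)
  have hx1 : x ≠ 1 := by
    intro h
    rw [h, map_one, mul_one, inv_mul_cancel] at hgx
    have h1 : (y : GL chevF4.Idx F) = 1 := glMap_injective ι (hgx.trans (map_one _).symm)
    rw [show y = 1 from Subtype.ext h1, orderOf_one] at hy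
    exact hs.ne_one hy.symm
  have hact : ∀ (L : List (Fin chevF4.rank)) (χ : Fin chevF4.rank → Eˣ),
      permAct hc (permOf hc L.reverse) χ = reflChars L χ := fun L χ => by
    rw [permAct_permOf, List.reverse_reverse]
  have hcp : ∀ L : List (Fin chevF4.rank), reflChars L x = x ^ q →
      (permMat hc (permOf hc L.reverse)).charpoly = cyclotomic d ℤ := by
    intro L hL
    have hdvd := cyclotomic_dvd_of_eigen hc (q := q) ⟨_, rfl⟩ hW ((hact L x).trans hL) hxs hx1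
    rw [hd] at hdvd
    refine Polynomial.eq_of_monic_of_dvd_of_natDegree_le (cyclotomic.monic d ℤ) (Matrix.charpoly_monic _) hdvd ?_
    rw [Matrix.charpoly_natDegree_eq_dim, natDegree_cyclotomic, Fintype.card_fin]
    rcases hd' with rfl | rfl <;> decide
  obtain ⟨L₀, hL₀, -⟩ := twist_weyl hc hcomm (q := q) (m := s) hco {x} (by rintro _ rfl; exact hxd)
    (by rintro _ rfl; exact hxs) hcG (by rintro _ rfl; exact hcx)
  have hs2 : s ≠ 2 := by omega
  have hreg : ∀ t, t < chevF4.nroots → chi x (rv chevF4 T t) ≠ 1 := fun t ht =>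
    regular_of_eigen hc ⟨_, rfl⟩ (by omega) (hcp L₀ (hL₀ x rfl)) hs2 hW hxs hx1 ((hact L₀ x).trans (hL₀ x rfl)) ht
  obtain ⟨L, a, hLx, hcform⟩ := exists_twist_form hc hcomm hco hxd hxs hreg hW hcG hcx
  set w := glMap chevF4 ι (z : GL chevF4.Idx F) with hw
  have hcm : w * (g⁻¹ * torus chevF4 T E x * g) = (g⁻¹ * torus chevF4 T E x * g) * w := by
    rw [← hgx, hw, ← map_mul, ← map_mul, ← Subgroup.coe_mul, ← Subgroup.coe_mul, hcom.eq]
  have hwd : g * w * g⁻¹ ∈ chevF4.diagonalSubgroup E := by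
    refine mem_diagonal_of_commute hc hcomm hxd hreg (fun π hπ => stab_regular hc hW hxs hreg hπ)
      (mul_mem (mul_mem hg (glMap_group hc ι z.2)) (inv_mem hg)) ?_
    calc g * w * g⁻¹ * torus chevF4 T E x * (g * w * g⁻¹)⁻¹
        = g * (w * (g⁻¹ * torus chevF4 T E x * g)) * w⁻¹ * g⁻¹ := by group
      _ = _ := by rw [hcm]; group
  obtain ⟨b, hb⟩ := (mem_diagonal hc).1 hwd
  set χ := hPar chevF4 E b
  have hgz : glMap chevF4 ι (z : GL chevF4.Idx F) = g⁻¹ * torus chevF4 T E χ * g := by rw [hb, hw]; group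
  have hcχ := twist_conj hc ι σ hσι hσ hgz
  have hLχ : reflChars L χ = χ ^ q := by
    rw [hcform, twist_form_conj hc] at hcχ
    exact torus_injective hc hcχ
  have hχn : χ ^ ((cyclotomic d ℤ).eval (q : ℤ)) = 1 := by
    refine pow_eval_eq_one hc ((hact L χ).trans hLχ) ?_
    rw [← hcp L hLx]
    exact Matrix.aeval_self_charpoly _
  rw [ZMod.intCast_zmod_eq_zero_iff_dvd, ← hz]
  refine orderOf_dvd_iff_zpow_eq_one.2 (Subtype.ext (glMap_injective ι ?_))
  rw [SubgroupClass.coe_zpow, map_zpow, hgz,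
    show g⁻¹ * torus chevF4 T E χ * g = MulAut.conj g⁻¹ (torus chevF4 T E χ) by simp, ← map_zpow, ← map_zpow, hχn,
    map_one, map_one, OneMemClass.coe_one, map_one]

/-- no element of order `r s` for two of `e = 3, 4, 6` -/
theorem no_pair {q : ℕ} (hq : Fintype.card F = q) {r s a b : ℕ} [Fact r.Prime] [Fact s.Prime]
    (ha : orderOf (q : ZMod r) = a) (hb : orderOf (q : ZMod s) = b)
    (hab : (a = 3 ∧ b = 4) ∨ (a = 3 ∧ b = 6) ∨ (a = 4 ∧ b = 6)) :
    ¬ ∃ x : ↥(chevF4.group F), orderOf x = r * s := by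
  classical
  rintro ⟨x, hx⟩
  have hr := (Fact.out : r.Prime)
  have hs := (Fact.out : s.Prime)
  obtain ⟨hr5, hrq, -⟩ := large_of_order (q := q) (s := r) (by omega)
  obtain ⟨hs5, hsq, -⟩ := large_of_order (q := q) (s := s) (by omega)
  have hrs : r ≠ s := by rintro rfl; omega
  have hq1 : 1 < q := hq ▸ Fintype.one_lt_card
  obtain ⟨E, iE, iF, ι, σ, hfix, hσ, hE⟩ := exists_extension F (show 0 < 12 by norm_num)
  rw [hq] at hσ hE
  set N := q ^ 12 - 1 with hN
  have hN0 : N ≠ 0 := by have := Nat.one_lt_pow (show 12 ≠ 0 by norm_num) hq1; omega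
  set k := N.factorization r
  set l := N.factorization s
  have hrN : r ∣ N := dvd_extension hq1.le (by rw [ha]; rcases hab with h | h | h <;> rw [h.1] <;> norm_num)
  have hsN : s ∣ N := dvd_extension hq1.le (by rw [hb]; rcases hab with h | h | h <;> rw [h.2] <;> norm_num)
  have hk : 1 ≤ k := hr.factorization_pos_of_dvd hN0 hrN
  have hl : 1 ≤ l := hs.factorization_pos_of_dvd hN0 hsN
  obtain ⟨e, he⟩ : r ^ k * s ^ l ∣ N := Nat.Coprime.mul_dvd_of_dvd_of_dvd
    (((Nat.coprime_primes hr hs).2 hrs).pow _ _) (Nat.ordProj_dvd _ _) (Nat.ordProj_dvd _ _)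
  set m := r ^ k * s ^ l with hm
  have her : ¬ r ∣ e := fun ⟨c, hc'⟩ => Nat.pow_succ_factorization_not_dvd hN0 hr
    ⟨s ^ l * c, he.trans (by rw [hm, hc', pow_succ]; ring)⟩
  have hes : ¬ s ∣ e := fun ⟨c, hc'⟩ => Nat.pow_succ_factorization_not_dvd hN0 hs
    ⟨r ^ k * c, he.trans (by rw [hm, hc', pow_succ]; ring)⟩
  have hcopm : ∀ {n : ℕ}, ¬ r ∣ n → ¬ s ∣ n → Nat.Coprime n m := fun h1 h2 =>
    (((hr.coprime_iff_not_dvd.2 h1).symm).pow_right k).mul_right (((hs.coprime_iff_not_dvd.2 h2).symm).pow_right l)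
  have hm1 : 1 < m := lt_of_lt_of_le (Nat.one_lt_pow (by omega) hr.one_lt)
    (Nat.le_mul_of_pos_right _ (pow_pos hs.pos _))
  have hrsm : r * s ∣ m := Nat.mul_dvd_mul (dvd_pow_self r (by omega)) (dvd_pow_self s (by omega))
  obtain ⟨g, hg, hgK⟩ := exists_torus_conj_set hc hcomm ι hm1 (by rw [hE]; exact he) (hcopm her hes) invCartan_adj
    (Nat.coprime_one_left m) mem_allNodes (hcopm (not_dvd_weyl hc hr hr5) (not_dvd_weyl hc hs hs5)) (by decide)
    (Subgroup.zpowers x) (by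
      rintro y hy
      obtain ⟨j, rfl⟩ := Subgroup.mem_zpowers_iff.1 hy
      rw [← zpow_natCast, ← zpow_mul, mul_comm, zpow_mul, zpow_natCast,
        orderOf_dvd_iff_pow_eq_one.1 (by rw [hx]; exact hrsm), one_zpow])
  obtain ⟨χ, hχm, hχd, hgx⟩ := hgK x (Subgroup.mem_zpowers x)
  have hσι : ∀ a, σ (ι a) = ι a := fun a => (hfix _).2 ⟨_, rfl⟩
  obtain ⟨L, hL, -⟩ := twist_weyl hc hcomm (q := q) (m := m) (hcopm hrq hsq) {χ} (by rintro _ rfl; exact hχd)
    (by rintro _ rfl; exact hχm) (mul_mem (glMap_group hc σ hg) (inv_mem hg))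
    (by rintro _ rfl; exact twist_conj hc ι σ hσι hσ hgx)
  set π := permOf hc L.reverse
  have hπ : π ∈ weylGrp hc := ⟨_, rfl⟩
  have hact : permAct hc π χ = χ ^ q := by
    rw [permAct_permOf, List.reverse_reverse]; exact hL χ rfl
  have hord : orderOf χ = r * s := by
    rw [← hx, ← orderOf_injective (chevF4.group F).subtype Subtype.val_injective x, ← orderOf_injective
      (glMap chevF4 ι) (glMap_injective ι) _, show (chevF4.group F).subtype x = (x : GL chevF4.Idx F) from rfl, hgx,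
      show g⁻¹ * torus chevF4 T E χ * g = MulAut.conj g⁻¹ (torus chevF4 T E χ) by simp, MulEquiv.orderOf_eq,
      orderOf_injective _ (torus_injective hc)]
  have heig : ∀ p : ℕ, permAct hc π (χ ^ p) = (χ ^ p) ^ q := fun p => by
    rw [map_pow, hact, ← pow_mul, ← pow_mul, mul_comm]
  have hr' : (χ ^ s) ^ r = 1 := by rw [← pow_mul, mul_comm, ← hord, pow_orderOf_eq_one]
  have hs' : (χ ^ r) ^ s = 1 := by rw [← pow_mul, ← hord, pow_orderOf_eq_one]
  have hr1 : χ ^ s ≠ 1 := fun h => by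
    have h1 := Nat.le_of_dvd hs.pos (hord ▸ orderOf_dvd_of_pow_eq_one h)
    nlinarith [hr.two_le, hs.two_le]
  have hs1 : χ ^ r ≠ 1 := fun h => by
    have h1 := Nat.le_of_dvd hr.pos (hord ▸ orderOf_dvd_of_pow_eq_one h)
    nlinarith [hr.two_le, hs.two_le]
  have hda := cyclotomic_dvd_of_eigen hc (q := q) hπ (not_dvd_weyl_card hc hr hr5) (heig s) hr' hr1
  have hdb := cyclotomic_dvd_of_eigen hc (q := q) hπ (not_dvd_weyl_card hc hs hs5) (heig r) hs' hs1
  rw [ha] at hda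
  rw [hb] at hdb
  have hmon : (cyclotomic a ℤ * cyclotomic b ℤ).Monic := (cyclotomic.monic a ℤ).mul (cyclotomic.monic b ℤ)
  have hdvd : cyclotomic a ℤ * cyclotomic b ℤ ∣ (permMat hc π).charpoly := by
    refine (Polynomial.map_dvd_map (Int.castRingHom ℚ) Int.cast_injective hmon).1 ?_
    rw [Polynomial.map_mul, map_cyclotomic, map_cyclotomic]
    refine (cyclotomic.isCoprime_rat (by omega)).mul_dvd ?_ ?_
    · rw [← map_cyclotomic a (Int.castRingHom ℚ)]; exact Polynomial.map_dvd _ hda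
    · rw [← map_cyclotomic b (Int.castRingHom ℚ)]; exact Polynomial.map_dvd _ hdb
  have heq : (permMat hc π).charpoly = cyclotomic a ℤ * cyclotomic b ℤ := by
    refine Polynomial.eq_of_monic_of_dvd_of_natDegree_le hmon (Matrix.charpoly_monic _) hdvd ?_
    rw [Matrix.charpoly_natDegree_eq_dim, Polynomial.natDegree_mul (cyclotomic_ne_zero a ℤ) (cyclotomic_ne_zero b ℤ),
      natDegree_cyclotomic, natDegree_cyclotomic, Fintype.card_fin]
    rcases hab with ⟨rfl, rfl⟩ | ⟨rfl, rfl⟩ | ⟨rfl, rfl⟩ <;> decide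
  rcases permMat_good hc hπ hab (by rw [← heq]; exact Matrix.aeval_self_charpoly _) with h | h
  · have := order_of_eval_zero (not_dvd_twentyfour hs hs5 (by rcases hab with ⟨rfl, rfl⟩ | ⟨rfl, rfl⟩ | ⟨rfl, rfl⟩ <;> norm_num) : ¬ s ∣ a)
      (eval_zero_of_eigen hc (heig r) hs' hs1 h)
    omega
  · have := order_of_eval_zero (not_dvd_twentyfour hr hr5 (by rcases hab with ⟨rfl, rfl⟩ | ⟨rfl, rfl⟩ | ⟨rfl, rfl⟩ <;> norm_num) : ¬ r ∣ b)
      (eval_zero_of_eigen hc (heig s) hr' hr1 h)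
    omega

/-- equal `e = 8` or `12` -/
theorem exists_equal_large {q : ℕ} (hq : Fintype.card F = q) (hq2 : Even q) {r s d : ℕ} [Fact r.Prime]
    [Fact s.Prime] (hrs : r ≠ s) (hr : orderOf (q : ZMod r) = d) (hs : orderOf (q : ZMod s) = d)
    (hd : d = 8 ∨ d = 12) (hrG : r ∣ Nat.card ↥(chevF4.group F)) :
    ∃ x : ↥(chevF4.group F), orderOf x = r * s := by
  classical
  have hr' := (Fact.out : r.Prime)
  have hs' := (Fact.out : s.Prime)
  obtain ⟨hr5, -, hrd⟩ := large_of_order (q := q) (s := r) (by omega)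
  obtain ⟨hs5, -, hsd⟩ := large_of_order (q := q) (s := s) (by omega)
  rw [hr] at hrd
  rw [hs] at hsd
  have hrd' : ¬ r ∣ d := fun h => by
    have h1 := Nat.le_of_dvd (by omega) h
    have h2 := Nat.le_of_dvd (by omega) hrd
    omega
  have hsd' : ¬ s ∣ d := fun h => by
    have h1 := Nat.le_of_dvd (by omega) h
    have h2 := Nat.le_of_dvd (by omega) hsd
    omega
  have hq1 : 1 < q := hq ▸ Fintype.one_lt_card
  obtain ⟨Φ, hΦ, hsq⟩ : ∃ Φ : ℕ, (cyclotomic d ℤ).eval (q : ℤ) = Φ ∧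
      ∀ l : ℕ, l.Prime → l ∣ d → ¬ l ^ 2 ∣ Φ := by
    obtain ⟨j, rfl⟩ := hq2
    rcases hd with rfl | rfl
    · refine ⟨(j + j) ^ 4 + 1, ?_, ?_⟩
      · rw [show 8 = 2 ^ (2 + 1) from rfl, cyclotomic_prime_pow_eq_geom_sum Nat.prime_two]
        simp [Finset.sum_range_succ]; ring
      · intro l hl h8 h
        obtain rfl := (Nat.prime_dvd_prime_iff_eq hl Nat.prime_two).1 (hl.dvd_of_dvd_pow (show l ∣ 2 ^ 3 from h8))
        have h2 : 2 ∣ (j + j) ^ 4 + 1 := dvd_trans (by norm_num) h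
        rw [show (j + j) ^ 4 = 2 * (8 * j ^ 4) by ring] at h2
        omega
    · refine ⟨(j + j) ^ 4 - (j + j) ^ 2 + 1, eval_cyclotomic_twelve (by omega), ?_⟩
      intro l hl h12 h
      have hle : (j + j) ^ 2 ≤ (j + j) ^ 4 := Nat.pow_le_pow_right (by omega) (by norm_num)
      have hl' : l = 2 ∨ l = 3 := by
        rcases hl.dvd_mul.1 (show l ∣ 4 * 3 from h12) with h' | h'
        · exact Or.inl ((Nat.prime_dvd_prime_iff_eq hl Nat.prime_two).1 (hl.dvd_of_dvd_pow (show l ∣ 2 ^ 2 from h')))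
        · exact Or.inr ((Nat.prime_dvd_prime_iff_eq hl Nat.prime_three).1 h')
      have h1 : l ∣ (j + j) ^ 4 - (j + j) ^ 2 + 1 := dvd_trans (dvd_pow_self l (by norm_num)) h
      rw [← ZMod.natCast_eq_zero_iff, Nat.cast_add, Nat.cast_sub hle, Nat.cast_pow, Nat.cast_pow] at h1
      rcases hl' with rfl | rfl
      · generalize ((j + j : ℕ) : ZMod 2) = u at h1; revert u; decide
      · generalize ((j + j : ℕ) : ZMod 3) = u at h1; revert u; decide
  have hdvd : ∀ p : ℕ, [Fact p.Prime] → orderOf (q : ZMod p) = d → ¬ p ∣ d → p ∣ Φ := by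
    intro p _ hp hpd
    have := eval_cyclotomic_zero hp hpd
    rw [hΦ, Int.cast_natCast] at this
    exact (ZMod.natCast_eq_zero_iff _ p).1 this
  obtain ⟨H, hH, hHc, -⟩ := cyclic_self_centralizing hc hcomm hq (d := d) (by omega) (by decide)
    (by rcases hd with rfl | rfl <;> decide) invCartan_spec mem_allNodes hΦ hsq (r := r) (by omega)
    (hdvd r hr hrd') hrd' (not_dvd_weyl hc hr' hr5) hrG
  obtain ⟨γ, hγ⟩ := hH.exists_generator
  have hγo : orderOf γ = Φ := by rw [orderOf_eq_card_of_forall_mem_zpowers hγ, hHc]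
  obtain ⟨c, hc'⟩ : r * s ∣ Φ :=
    ((Nat.coprime_primes hr' hs').2 hrs).mul_dvd_of_dvd_of_dvd (hdvd r hr hrd') (hdvd s hs hsd')
  refine ⟨((γ ^ c : ↥H) : ↥(chevF4.group F)), ?_⟩
  have hc0 : 0 < c := Nat.pos_of_ne_zero fun h => by
    have : 0 < Φ := hHc ▸ Nat.card_pos
    rw [h, mul_zero] at hc'; omega
  rw [Subgroup.orderOf_coe, orderOf_pow, hγo, hc', Nat.gcd_eq_right (dvd_mul_left c _), Nat.mul_div_cancel _ hc0]

end

end CfsgLib.F4PrimeGraph
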