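import Cfsg.Agent.Lib.F4PrimeGraph.Data
import Mathlib

/-!
# Kernel checks on the table of the Weyl group of F4
-/

set_option autoImplicit false

namespace CfsgLib.F4PrimeGraph

open scoped Matrix

/-- integral vectors with four entries -/
abbrev V4 : Type := ℤ × ℤ × ℤ × ℤ

/-- the entries of such a vector -/
def vget (v : V4) : Fin 4 → ℤ := ![v.1, v.2.1, v.2.2.1, v.2.2.2]

/-- integral `4 × 4` matrices by columns -/
structure M4 where
  a : V4
  b : V4
  c : V4
  d : V4
deriving DecidableEq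

namespace M4

/-- the matrix times a vector -/
def app (X : M4) (v : V4) : V4 :=
  (X.a.1 * v.1 + X.b.1 * v.2.1 + X.c.1 * v.2.2.1 + X.d.1 * v.2.2.2,
   X.a.2.1 * v.1 + X.b.2.1 * v.2.1 + X.c.2.1 * v.2.2.1 + X.d.2.1 * v.2.2.2,
   X.a.2.2.1 * v.1 + X.b.2.2.1 * v.2.1 + X.c.2.2.1 * v.2.2.1 + X.d.2.2.1 * v.2.2.2,
   X.a.2.2.2 * v.1 + X.b.2.2.2 * v.2.1 + X.c.2.2.2 * v.2.2.1 + X.d.2.2.2 * v.2.2.2)

/-- product -/
def mul (X Y : M4) : M4 := ⟨X.app Y.a, X.app Y.b, X.app Y.c, X.app Y.d⟩
/-- sum -/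
def add (X Y : M4) : M4 := ⟨X.a + Y.a, X.b + Y.b, X.c + Y.c, X.d + Y.d⟩
/-- negative -/
def neg (X : M4) : M4 := ⟨-X.a, -X.b, -X.c, -X.d⟩
/-- identity -/
def one : M4 := ⟨(1, 0, 0, 0), (0, 1, 0, 0), (0, 0, 1, 0), (0, 0, 0, 1)⟩
/-- zero -/
def zero : M4 := ⟨(0, 0, 0, 0), (0, 0, 0, 0), (0, 0, 0, 0), (0, 0, 0, 0)⟩

/-- the matrix -/
def toMat (X : M4) : Matrix (Fin 4) (Fin 4) ℤ := Matrix.of fun i j => vget (![X.a, X.b, X.c, X.d] j) i

theorem toMat_mul (X Y : M4) : (X.mul Y).toMat = X.toMat * Y.toMat := by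
  ext i j
  fin_cases i <;> fin_cases j <;> simp [toMat, mul, app, vget, Matrix.mul_apply, Fin.sum_univ_four]

theorem toMat_add (X Y : M4) : (X.add Y).toMat = X.toMat + Y.toMat := by
  ext i j
  fin_cases i <;> fin_cases j <;> simp [toMat, add, vget]

theorem toMat_neg (X : M4) : X.neg.toMat = -X.toMat := by
  ext i j
  fin_cases i <;> fin_cases j <;> simp [toMat, neg, vget]

theorem toMat_one : one.toMat = 1 := by
  ext i j
  fin_cases i <;> fin_cases j <;> simp [toMat, one, vget]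

theorem toMat_zero : zero.toMat = 0 := by
  ext i j
  fin_cases i <;> fin_cases j <;> simp [toMat, zero, vget]

theorem toMat_injective : Function.Injective toMat := by
  intro X Y h
  have e := fun i j => congrFun (congrFun h i) j
  obtain ⟨⟨a0, a1, a2, a3⟩, ⟨b0, b1, b2, b3⟩, ⟨c0, c1, c2, c3⟩, ⟨d0, d1, d2, d3⟩⟩ := X
  obtain ⟨⟨a0', a1', a2', a3'⟩, ⟨b0', b1', b2', b3'⟩, ⟨c0', c1', c2', c3'⟩, ⟨d0', d1', d2', d3'⟩⟩ := Y
  have h00 : a0 = a0' := e 0 0
  have h10 : a1 = a1' := e 1 0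
  have h20 : a2 = a2' := e 2 0
  have h30 : a3 = a3' := e 3 0
  have h01 : b0 = b0' := e 0 1
  have h11 : b1 = b1' := e 1 1
  have h21 : b2 = b2' := e 2 1
  have h31 : b3 = b3' := e 3 1
  have h02 : c0 = c0' := e 0 2
  have h12 : c1 = c1' := e 1 2
  have h22 : c2 = c2' := e 2 2
  have h32 : c3 = c3' := e 3 2
  have h03 : d0 = d0' := e 0 3
  have h13 : d1 = d1' := e 1 3
  have h23 : d2 = d2' := e 2 3
  have h33 : d3 = d3' := e 3 3
  subst_vars
  rfl

/-- the value of the cyclotomic polynomial of index 3, 4 or 6 -/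
def phi (X : M4) : ℕ → M4
  | 3 => ((X.mul X).add X).add one
  | 4 => (X.mul X).add one
  | _ => ((X.mul X).add X.neg).add one

end M4

/-- the matrix of the images of the four fundamental roots -/
def stateMat (s : ℕ × ℕ × ℕ × ℕ) : M4 :=
  ⟨rootVecs.getD s.1 (0, 0, 0, 0), rootVecs.getD s.2.1 (0, 0, 0, 0), rootVecs.getD s.2.2.1 (0, 0, 0, 0),
    rootVecs.getD s.2.2.2 (0, 0, 0, 0)⟩

/-- membership in the table of Weyl group elements -/
def inStates (s : ℕ × ℕ × ℕ × ℕ) : Bool :=
  (weylStates.getD s.1 []).elem (s.2.1 + 48 * s.2.2.1 + 2304 * s.2.2.2)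

/-- the reflection table -/
def step (i : ℕ) (s : ℕ) : ℕ := (rootTbl.getD i []).getD s 0

/-- decoding -/
def decode (a c : ℕ) : ℕ × ℕ × ℕ × ℕ := (a, c % 48, c / 48 % 48, c / 2304)

/-- the table is closed under the fundamental reflections -/
def closedStates : Bool :=
  (List.range 48).all fun a => (weylStates.getD a []).all fun c =>
    let s := decode a c
    (List.range 4).all fun i => inStates (step i s.1, step i s.2.1, step i s.2.2.1, step i s.2.2.2)

/-- no element of the table is annihilated by a product of two of `Φ₃, Φ₄, Φ₆` and by neither factor -/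
def goodPair (X : M4) (a b : ℕ) : Bool :=
  decide ((X.phi a).mul (X.phi b) ≠ M4.zero) || decide (X.phi a = M4.zero) || decide (X.phi b = M4.zero)

/-- the condition on all elements -/
def goodStates : Bool :=
  (List.range 48).all fun a => (weylStates.getD a []).all fun c =>
    let X := stateMat (decode a c)
    goodPair X 3 4 && (goodPair X 3 6 && goodPair X 4 6)

theorem closedStates_eq : closedStates = true := by decide +kernel

theorem goodStates_eq : goodStates = true := by decide +kernel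

/-- the invariant form -/
def formFour : Matrix (Fin 4) (Fin 4) ℤ := !![2, -1, 0, 0; -1, 2, -2, 0; 0, -2, 4, -2; 0, 0, -2, 4]

theorem formFour_det : formFour.det ≠ 0 := by decide +kernel

theorem formFour_simple : ∀ i : Fin 4,
    let A := (stateMat (step i.val 33, step i.val 27, step i.val 25, step i.val 24)).toMat
    Aᵀ * formFour * A = formFour ∧ A.det = -1 := by
  decide +kernel

end CfsgLib.F4PrimeGraph
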