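import Cfsg.Agent.Lib.F4PrimeGraph.Cases

/-!
# Equal orders `3`, `4`, `6`: a rank two torus
-/

set_option autoImplicit false
set_option linter.unusedSectionVars false
set_option maxHeartbeats 800000

namespace CfsgLib.F4PrimeGraph

open Cfsg.Lie CfsgLib.Chev CfsgLib.ChevField CfsgLib.ChevCent Polynomial
open scoped Matrix

/-- a matrix of determinant `-1` preserving a form has no two-dimensional eigenspace for an eigenvalue
other than `± 1` -/
theorem false_of_det {A B : Matrix (Fin 4) (Fin 4) ℤ} (hB : Aᵀ * B * A = B) (hBd : B.det ≠ 0) (hdet : A.det = -1)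
    {r : ℕ} [Fact r.Prime] (hr2 : r ≠ 2) {q : ZMod r} (hq : q ^ 2 ≠ 1) {v₁ v₂ : Fin 4 → ZMod r}
    (h₁ : v₁ ᵥ* (Int.castRingHom (ZMod r)).mapMatrix A = q • v₁)
    (h₂ : v₂ ᵥ* (Int.castRingHom (ZMod r)).mapMatrix A = q • v₂)
    (hli : ∀ a b : ZMod r, a • v₁ + b • v₂ = 0 → a = 0 ∧ b = 0) : False := by
  classical
  set f : Matrix (Fin 4) (Fin 4) ℤ →+* Matrix (Fin 4) (Fin 4) (ZMod r) := (Int.castRingHom (ZMod r)).mapMatrix with hf
  set A' := f A with hA'
  have e1 : (1 - A).det = 0 := by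
    have h : Aᵀ * B * (1 - A) = (Aᵀ - 1) * B := by
      rw [Matrix.mul_sub, Matrix.mul_one, hB, Matrix.sub_mul, Matrix.one_mul]
    have h' := congrArg Matrix.det h
    have e : (Aᵀ - 1).det = (1 - A).det := by
      rw [← Matrix.transpose_one, ← Matrix.transpose_sub, Matrix.det_transpose, ← neg_sub 1 A, Matrix.det_neg]
      simp
    rw [Matrix.det_mul, Matrix.det_mul, Matrix.det_mul, Matrix.det_transpose, hdet, e] at h'
    have h2 : (1 - A).det * B.det = 0 := by linarith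
    exact (mul_eq_zero.1 h2).resolve_right hBd
  have e2 : (1 + A).det = 0 := by
    have h : Aᵀ * B * (1 + A) = (Aᵀ + 1) * B := by
      rw [Matrix.mul_add, Matrix.mul_one, hB, Matrix.add_mul, Matrix.one_mul]
    have h' := congrArg Matrix.det h
    have e : (Aᵀ + 1).det = (1 + A).det := by
      rw [← Matrix.det_transpose (1 + A), Matrix.transpose_add, Matrix.transpose_one, add_comm]
    rw [Matrix.det_mul, Matrix.det_mul, Matrix.det_mul, Matrix.det_transpose, hdet, e] at h'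
    have h2 : (1 + A).det * B.det = 0 := by linarith
    exact (mul_eq_zero.1 h2).resolve_right hBd
  obtain ⟨v₃, hv₃, h3⟩ := Matrix.exists_vecMul_eq_zero_iff.2
    (show (1 - A').det = 0 by rw [hA', ← map_one f, ← map_sub, hf, ← RingHom.map_det, e1, map_zero])
  obtain ⟨v₄, hv₄, h4⟩ := Matrix.exists_vecMul_eq_zero_iff.2
    (show (1 + A').det = 0 by rw [hA', ← map_one f, ← map_add, hf, ← RingHom.map_det, e2, map_zero])
  have h3' : v₃ ᵥ* A' = v₃ := by
    rw [Matrix.vecMul_sub, Matrix.vecMul_one, sub_eq_zero] at h3; exact h3.symm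
  have h4' : v₄ ᵥ* A' = -v₄ := by
    rw [Matrix.vecMul_add, Matrix.vecMul_one] at h4; exact eq_neg_of_add_eq_zero_right h4
  set P : Matrix (Fin 4) (Fin 4) (ZMod r) := Matrix.of ![v₁, v₂, v₃, v₄] with hP
  have hPA : P * A' = Matrix.diagonal ![q, q, 1, -1] * P := by
    ext i j
    rw [Matrix.mul_apply_eq_vecMul, Matrix.diagonal_mul]
    fin_cases i
    · exact congrFun h₁ j
    · exact congrFun h₂ j
    · show (v₃ ᵥ* A') j = 1 * v₃ j
      rw [h3', one_mul]
    · show (v₄ ᵥ* A') j = -1 * v₄ j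
      rw [h4', neg_one_mul]; rfl
  have two0 : (2 : ZMod r) ≠ 0 := by
    intro h
    have h' : ((2 : ℕ) : ZMod r) = 0 := by exact_mod_cast h
    exact hr2 ((Nat.prime_dvd_prime_iff_eq Fact.out Nat.prime_two).1 ((ZMod.natCast_eq_zero_iff _ r).1 h'))
  have hPd : P.det ≠ 0 := by
    intro h0
    obtain ⟨c, hc, hcP⟩ := Matrix.exists_vecMul_eq_zero_iff.2 h0
    set a := c 0 • v₁ + c 1 • v₂ with ha
    set b := c 2 • v₃ with hb
    set d := c 3 • v₄ with hd
    have hsum : a + b + d = 0 := by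
      funext j
      have := congrFun hcP j
      simp only [Matrix.vecMul, dotProduct, Fin.sum_univ_four, hP, Matrix.of_apply, Pi.zero_apply] at this
      simp only [ha, hb, hd, Pi.add_apply, Pi.smul_apply, smul_eq_mul, Pi.zero_apply]
      simpa using this
    have hA1 : a ᵥ* A' = q • a := by
      rw [ha, Matrix.add_vecMul, Matrix.smul_vecMul, Matrix.smul_vecMul, h₁, h₂, smul_add, smul_comm (c 0) q,
        smul_comm (c 1) q]
    have hA2 : b ᵥ* A' = b := by rw [hb, Matrix.smul_vecMul, h3']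
    have hA3 : d ᵥ* A' = -d := by rw [hd, Matrix.smul_vecMul, h4', smul_neg]
    have s1 : q • a + b - d = 0 := by
      have := congrArg (fun v => v ᵥ* A') hsum
      simp only [Matrix.add_vecMul, hA1, hA2, hA3, Matrix.zero_vecMul] at this
      rw [sub_eq_add_neg]; exact this
    have s2 : q ^ 2 • a + b + d = 0 := by
      have := congrArg (fun v => v ᵥ* A') s1
      simp only [Matrix.add_vecMul, Matrix.sub_vecMul, Matrix.smul_vecMul, hA1, hA2, hA3, Matrix.zero_vecMul,
        smul_smul, sub_neg_eq_add] at this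
      rw [pow_two]; exact this
    have ha0 : a = 0 := by
      funext j
      have e := congrFun s2 j
      have e' := congrFun hsum j
      simp only [Pi.add_apply, Pi.smul_apply, smul_eq_mul, Pi.zero_apply] at e e'
      have : (q ^ 2 - 1) * a j = 0 := by linear_combination e - e'
      exact (mul_eq_zero.1 this).resolve_left (sub_ne_zero.2 hq)
    obtain ⟨c0, c1⟩ := hli _ _ (ha ▸ ha0)
    have hb0 : b = 0 ∧ d = 0 := by
      constructor <;> funext j <;>
      · have e := congrFun s1 j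
        have e' := congrFun hsum j
        rw [ha0] at e e'
        simp only [Pi.add_apply, Pi.sub_apply, Pi.smul_apply, smul_eq_mul, Pi.zero_apply, mul_zero, zero_add] at e e'
        refine (mul_eq_zero.1 ?_).resolve_left two0
        first
          | linear_combination e + e'
          | linear_combination e' - e
    have c2 : c 2 = 0 := (smul_eq_zero.1 hb0.1).resolve_right hv₃
    have c3 : c 3 = 0 := (smul_eq_zero.1 hb0.2).resolve_right hv₄
    refine hc (funext fun i => ?_)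
    fin_cases i <;> assumption
  have h := congrArg Matrix.det hPA
  rw [Matrix.det_mul, Matrix.det_mul, Matrix.det_diagonal, hA', hf, ← RingHom.map_det, hdet, Fin.prod_univ_four] at h
  simp at h
  have h5 : (q ^ 2 - 1) * P.det = 0 := by linear_combination -h
  exact hq (sub_eq_zero.1 ((mul_eq_zero.1 h5).resolve_right hPd))

/-- two independent elements of order `r` in a homocyclic group of rank two -/
theorem exists_two {G : Type*} [CommGroup G] {r v : ℕ} [Fact r.Prime] (hv : 1 ≤ v)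
    (e : G ≃* (Fin 2 → Multiplicative (ZMod (r ^ v)))) :
    ∃ y₁ y₂ : G, y₁ ^ r = 1 ∧ y₂ ^ r = 1 ∧ ∀ a b : ℕ, y₁ ^ a * y₂ ^ b = 1 → r ∣ a ∧ r ∣ b := by
  have hr := (Fact.out : r.Prime)
  set t : Multiplicative (ZMod (r ^ v)) := Multiplicative.ofAdd ((r ^ (v - 1) : ℕ) : ZMod (r ^ v)) with ht
  have htr : t ^ r = 1 := by
    rw [ht, ← ofAdd_nsmul, nsmul_eq_mul, ← Nat.cast_mul, ← pow_succ', show v - 1 + 1 = v by omega,
      ZMod.natCast_self, ofAdd_zero]
  have hta : ∀ a : ℕ, t ^ a = 1 → r ∣ a := by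
    intro a h
    rw [ht, ← ofAdd_nsmul, nsmul_eq_mul, ← Nat.cast_mul] at h
    have h1 : ((a * r ^ (v - 1) : ℕ) : ZMod (r ^ v)) = 0 := Multiplicative.ofAdd.injective (h.trans ofAdd_zero.symm)
    rw [ZMod.natCast_eq_zero_iff] at h1
    have h2 : r * r ^ (v - 1) ∣ a * r ^ (v - 1) := by
      rwa [← pow_succ', show v - 1 + 1 = v by omega]
    exact Nat.dvd_of_mul_dvd_mul_right (pow_pos hr.pos _) h2
  have hp : ∀ i : Fin 2, (Pi.mulSingle i t : Fin 2 → Multiplicative (ZMod (r ^ v))) ^ r = 1 := fun i => by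
    rw [← Pi.mulSingle_pow, htr, Pi.mulSingle_one]
  refine ⟨e.symm (Pi.mulSingle 0 t), e.symm (Pi.mulSingle 1 t), ?_, ?_, fun a b h => ?_⟩
  · rw [← map_pow, hp, map_one]
  · rw [← map_pow, hp, map_one]
  · have h' := congrArg e h
    simp only [map_mul, map_pow, MulEquiv.apply_symm_apply, map_one] at h'
    have h0 := congrFun h' 0
    have h1 := congrFun h' 1
    simp at h0 h1
    exact ⟨hta a h0, hta b h1⟩

section
variable {T : Tabs} (hc : Checked chevF4 T) (hcomm : CommOne chevF4 T) {F : Type*} [Field F] [Fintype F]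
include hc hcomm

/-- equal `e = 3`, `4` or `6` -/
theorem exists_equal_small {q : ℕ} (hq : Fintype.card F = q) {r s a : ℕ} [Fact r.Prime]
    [Fact s.Prime] (hrs : r ≠ s) (hr : orderOf (q : ZMod r) = a) (hs : orderOf (q : ZMod s) = a)
    (ha : a = 3 ∨ a = 4 ∨ a = 6) : ∃ x : ↥(chevF4.group F), orderOf x = r * s := by
  classical
  have hr' := (Fact.out : r.Prime)
  have hs' := (Fact.out : s.Prime)
  obtain ⟨hr5, hrq, -⟩ := large_of_order (q := q) (s := r) (by omega)
  obtain ⟨hs5, hsq, -⟩ := large_of_order (q := q) (s := s) (by omega)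
  have hq1 : 1 < q := hq ▸ Fintype.one_lt_card
  have ha24 : a ∣ 24 := by rcases ha with rfl | rfl | rfl <;> norm_num
  have hsa : ¬ s ∣ a := not_dvd_twentyfour hs' hs5 ha24
  have hra : ¬ r ∣ a := not_dvd_twentyfour hr' hr5 ha24
  have hW := not_dvd_weyl_card hc hr' hr5
  -- the Sylow subgroup
  have hwp : wsum hc allNodes 1 = [2, 6, 8, 12].prod := by rw [allNodes, wsum_F4 hc]; decide +kernel
  obtain ⟨eP⟩ := CfsgLib.ChevCent.sylow_homocyclic hc hcomm hq (r := r) (degs := [2, 6, 8, 12]) hrq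
    (by rw [← hwp]; exact not_dvd_weyl hc hr' hr5) (by decide) invCartan_adj (one_dvd _) mem_allNodes hwp
    (c := 1) (M := 24) hr'.not_dvd_one
    (by rw [one_mul, card_group_F4 hq]; simp only [List.map_cons, List.map_nil, List.prod_cons, List.prod_nil]; ring)
    (default : Sylow r ↥(chevF4.group F))
  rw [hr] at eP
  set v := padicValNat r ((Polynomial.cyclotomic a ℤ).eval (q : ℤ)).natAbs with hv_def
  obtain ⟨hv, e, he, hdv⟩ := rpart_cyclotomic (q := q) (r := r) (d := a) hq1 hr (by omega)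
  have hlen : ([2, 6, 8, 12].filter fun n => decide (a ∣ n)).length = 2 := by
    rcases ha with rfl | rfl | rfl <;> decide
  obtain ⟨eP2⟩ : Nonempty (↥((default : Sylow r ↥(chevF4.group F)) : Subgroup ↥(chevF4.group F)) ≃*
      (Fin 2 → Multiplicative (ZMod (r ^ v)))) := by
    have hn := hlen
    generalize hn' : ([2, 6, 8, 12].filter fun n => decide (a ∣ n)).length = n at eP hn
    subst hn
    exact ⟨eP⟩
  set P : Subgroup ↥(chevF4.group F) := ((default : Sylow r ↥(chevF4.group F)) : Subgroup ↥(chevF4.group F))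
  letI : CommGroup ↥P :=
    { (inferInstance : Group ↥P) with mul_comm := fun x y => eP2.injective (by rw [map_mul, map_mul, mul_comm]) }
  obtain ⟨y₁, y₂, hy₁, hy₂, hind⟩ := exists_two hv eP2
  have hPexp : ∀ y ∈ P, y ^ r ^ v = 1 := by
    intro y hy
    have h : (⟨y, hy⟩ : ↥P) ^ r ^ v = 1 := eP2.injective (by
      rw [map_pow, map_one]
      funext i
      rw [Pi.pow_apply, Pi.one_apply]
      apply Multiplicative.toAdd.injective
      rw [toAdd_pow, toAdd_one, nsmul_eq_mul, ZMod.natCast_self, zero_mul])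
    exact congrArg Subtype.val h
  obtain ⟨E, iE, iF, ι, σ, hfix, hσ, hE⟩ := exists_extension F (show 0 < a by omega)
  rw [hq] at hσ hE
  have hm1 : 1 < r ^ v := Nat.one_lt_pow (by omega) hr'.one_lt
  have hcop : ∀ {n : ℕ}, ¬ r ∣ n → Nat.Coprime n (r ^ v) := fun h =>
    ((hr'.coprime_iff_not_dvd.2 h).symm).pow_right v
  obtain ⟨g, hg, hgK⟩ := exists_torus_conj_set hc hcomm ι hm1 (by rw [hE]; exact hdv) (hcop he) invCartan_adj
    (Nat.coprime_one_left _) mem_allNodes (hcop (not_dvd_weyl hc hr' hr5)) (by decide) P hPexp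
  obtain ⟨x₁, -, hxd₁, hgx₁⟩ := hgK y₁ y₁.2
  obtain ⟨x₂, -, hxd₂, hgx₂⟩ := hgK y₂ y₂.2
  let Φ : (Fin chevF4.rank → Eˣ) →* GL chevF4.Idx E := (MulAut.conj g⁻¹).toMonoidHom.comp (torus chevF4 T E)
  have hΦ : Function.Injective Φ := fun x y h => torus_injective hc ((MulAut.conj g⁻¹).injective h)
  let Ψ : ↥P →* GL chevF4.Idx E := ((glMap chevF4 ι).comp (chevF4.group F).subtype).comp P.subtype
  have hΨ : Function.Injective Ψ := fun x y h => Subtype.ext (Subtype.ext (glMap_injective ι h))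
  have hΦΨ₁ : Φ x₁ = Ψ y₁ := by
    show MulAut.conj g⁻¹ (torus chevF4 T E x₁) = glMap chevF4 ι _
    rw [MulAut.conj_apply, inv_inv]; exact hgx₁.symm
  have hΦΨ₂ : Φ x₂ = Ψ y₂ := by
    show MulAut.conj g⁻¹ (torus chevF4 T E x₂) = glMap chevF4 ι _
    rw [MulAut.conj_apply, inv_inv]; exact hgx₂.symm
  have hx₁r : x₁ ^ r = 1 := hΦ (by rw [map_pow, map_one, hΦΨ₁, ← map_pow, hy₁, map_one])
  have hx₂r : x₂ ^ r = 1 := hΦ (by rw [map_pow, map_one, hΦΨ₂, ← map_pow, hy₂, map_one])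
  have hxind : ∀ i j : ℕ, x₁ ^ i * x₂ ^ j = 1 → r ∣ i ∧ r ∣ j := fun i j h => hind i j (hΨ (by
    rw [map_mul, map_pow, map_pow, ← hΦΨ₁, ← hΦΨ₂, ← map_pow, ← map_pow, ← map_mul, h, map_one, map_one]))
  have hσι : ∀ a, σ (ι a) = ι a := fun a => (hfix _).2 ⟨_, rfl⟩
  have hcG : glMap chevF4 σ g * g⁻¹ ∈ chevF4.group E := mul_mem (glMap_group hc σ hg) (inv_mem hg)
  have hco : Nat.Coprime q r := (hr'.coprime_iff_not_dvd.2 hrq).symm
  obtain ⟨L, hL, hLX⟩ := twist_weyl hc hcomm (q := q) (m := r) hco {x₁, x₂}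
    (by rintro y (rfl | rfl) <;> assumption) (by rintro y (rfl | rfl) <;> assumption) hcG
    (by rintro y (rfl | rfl)
        · exact twist_conj hc ι σ hσι hσ hgx₁
        · exact twist_conj hc ι σ hσι hσ hgx₂)
  set π := permOf hc L.reverse with hπ_def
  have hπ : π ∈ weylGrp hc := ⟨_, rfl⟩
  have hact : ∀ χ : Fin chevF4.rank → Eˣ, permAct hc π χ = reflChars L χ := fun χ => by
    rw [hπ_def, permAct_permOf, List.reverse_reverse]
  have hE1 : ∀ p : ℕ, [Fact p.Prime] → orderOf (q : ZMod p) = a → p ∣ Nat.card Eˣ := fun p _ hp => by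
    rw [Nat.card_units, Nat.card_eq_fintype_card, hE]; exact dvd_extension hq1.le (by rw [hp])
  -- additive form of the eigencharacters
  obtain ⟨ζ, hζ⟩ := exists_prime_orderOf_dvd_card' (G := Eˣ) r (hE1 r hr)
  have hpow : ∀ u : Eˣ, u ^ r = 1 → ∃ n : ℤ, ζ ^ n = u := by
    intro u hu
    have h1 : u ∈ (powMonoidHom r : Eˣ →* Eˣ).ker := hu
    have h2 : Subgroup.zpowers ζ = (powMonoidHom r : Eˣ →* Eˣ).ker := by
      refine Subgroup.eq_of_le_of_card_ge (Subgroup.zpowers_le.2 ?_) ?_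
      · show ζ ^ r = 1
        rw [← hζ, pow_orderOf_eq_one]
      · rw [Nat.card_zpowers, hζ, IsCyclic.card_powMonoidHom_ker, Nat.gcd_comm, Nat.gcd_eq_left (hE1 r hr)]
    exact Subgroup.mem_zpowers_iff.1 (h2 ▸ h1)
  choose w₁ hw₁ using fun k => hpow (x₁ k) (congrFun hx₁r k)
  choose w₂ hw₂ using fun k => hpow (x₂ k) (congrFun hx₂r k)
  have hvec : ∀ ρ : Equiv.Perm (Fin chevF4.nroots), ∀ (x : Fin chevF4.rank → Eˣ) (w : Fin chevF4.rank → ℤ),
      (∀ k, ζ ^ w k = x k) → permAct hc ρ x = x ^ q →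
        (fun k => (w k : ZMod r)) ᵥ* (Int.castRingHom (ZMod r)).mapMatrix (permMat hc ρ) =
          (q : ZMod r) • fun k => (w k : ZMod r) := by
    intro ρ x w hw hx
    funext k
    have h1 : chi x (permMat hc ρ *ᵥ Pi.single k 1) = x k ^ q := by
      rw [chi_permMat, hx, chi_pow', chi_single, zpow_one]
    rw [show x = fun k => ζ ^ w k from funext fun k => (hw k).symm, chi_zpow_vec, ← zpow_natCast, ← zpow_mul,
      ← div_eq_one, div_eq_mul_inv, ← zpow_sub, ← orderOf_dvd_iff_zpow_eq_one, hζ, Matrix.mulVec_single_one] at h1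
    have h2 := (ZMod.intCast_zmod_eq_zero_iff_dvd _ r).2 h1
    simp only [dotProduct, Int.cast_sub, Int.cast_sum, Int.cast_mul, Int.cast_natCast, sub_eq_zero] at h2
    rw [Pi.smul_apply, smul_eq_mul, mul_comm]
    exact h2
  have hli : ∀ i j : ZMod r, i • (fun k => (w₁ k : ZMod r)) + j • (fun k => (w₂ k : ZMod r)) = 0 → i = 0 ∧ j = 0 := by
    intro i j h
    have h1 : x₁ ^ i.val * x₂ ^ j.val = 1 := funext fun k => by
      rw [Pi.mul_apply, Pi.pow_apply, Pi.pow_apply, Pi.one_apply, ← hw₁ k, ← hw₂ k, ← zpow_natCast, ← zpow_natCast,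
        ← zpow_mul, ← zpow_mul, ← zpow_add, ← orderOf_dvd_iff_zpow_eq_one, hζ,
        ← ZMod.intCast_zmod_eq_zero_iff_dvd]
      have hk := congrFun h k
      simp only [Pi.add_apply, Pi.smul_apply, smul_eq_mul, Pi.zero_apply] at hk
      push_cast
      rw [ZMod.natCast_zmod_val, ZMod.natCast_zmod_val]
      linear_combination hk
    obtain ⟨h2, h3⟩ := hxind _ _ h1
    rw [← ZMod.natCast_eq_zero_iff, ZMod.natCast_zmod_val] at h2 h3
    exact ⟨h2, h3⟩
  have hq2 : (q : ZMod r) ^ 2 ≠ 1 := fun h => by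
    have := Nat.le_of_dvd (by norm_num) (hr ▸ orderOf_dvd_of_pow_eq_one h)
    omega
  have hnodet : ∀ ρ ∈ weylGrp hc, permAct hc ρ x₁ = x₁ ^ q → permAct hc ρ x₂ = x₂ ^ q →
      (permMat hc ρ).det ≠ -1 := fun ρ hρ h1 h2 hdet =>
    false_of_det (permMat_form hc hρ) formMat_det hdet (by omega) hq2 (hvec ρ x₁ w₁ hw₁ h1) (hvec ρ x₂ w₂ hw₂ h2)
      hli
  have hπ₁ : permAct hc π x₁ = x₁ ^ q := (hact x₁).trans (hL x₁ (Or.inl rfl))
  have hπ₂ : permAct hc π x₂ = x₂ ^ q := (hact x₂).trans (hL x₂ (Or.inr rfl))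
  have hdet1 : (permMat hc π).det = 1 := by
    have hu : IsUnit (permMat hc π).det := by
      refine IsUnit.of_mul_eq_one (b := (permMat hc π⁻¹).det) ?_
      rw [← Matrix.det_mul, ← permMat_mul hc hπ, mul_inv_cancel, permMat_one, Matrix.det_one]
    exact (Int.isUnit_iff.1 hu).resolve_right (hnodet π hπ hπ₁ hπ₂)
  have hregset : ∀ t, t < chevF4.nroots →
      (∀ y ∈ ({x₁, x₂} : Set (Fin chevF4.rank → Eˣ)), chi y (rv chevF4 T t) = 1) → False := by
    intro t ht hkill
    obtain ⟨ρ, hρ, hρd, hρk⟩ := exists_reflection_det hc ht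
    have hfixρ : ∀ y : Fin chevF4.rank → Eˣ, chi y (rv chevF4 T t) = 1 → permAct hc ρ y = y := by
      intro y hy
      funext j
      obtain ⟨k, hk⟩ := hρk ⟨chevF4.simple j.val, simple_lt hc j.2⟩
      show chi y (rv chevF4 T (ρ _).val) = y j
      rw [hk, chi_sub, chi_smul, hy, one_zpow, div_one, rv_simple hc, chi_single, zpow_one]
    refine hnodet (ρ * π) (mul_mem hρ hπ) ?_ ?_ ?_
    · rw [permAct_mul hc hρ, hfixρ x₁ (hkill x₁ (Or.inl rfl)), hπ₁]
    · rw [permAct_mul hc hρ, hfixρ x₂ (hkill x₂ (Or.inr rfl)), hπ₂]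
    · rw [permMat_mul hc hρ, Matrix.det_mul, hρd, hdet1, mul_one]
  have hx1 : x₁ ≠ 1 := fun h => hr'.not_dvd_one (hxind 1 0 (by rw [h]; simp)).1
  -- an eigencharacter modulo `s`
  have hcyc := cyclotomic_dvd_of_eigen hc (q := q) hπ hW hπ₁ hx₁r hx1
  rw [hr] at hcyc
  set B := Matrix.scalar (Fin chevF4.rank) (q : ℤ) - permMat hc π with hB
  have hdet0 : ((Int.castRingHom (ZMod s)).mapMatrix B).det = 0 := by
    rw [← RingHom.map_det, hB, ← Matrix.eval_charpoly]
    obtain ⟨R, hR⟩ := hcyc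
    rw [hR, Polynomial.eval_mul, map_mul, eq_intCast, eval_cyclotomic_zero hs hsa, zero_mul]
  obtain ⟨u, hu0, huB⟩ := Matrix.exists_vecMul_eq_zero_iff.2 hdet0
  obtain ⟨ξ, hξ⟩ := exists_prime_orderOf_dvd_card' (G := Eˣ) s (hE1 s hs)
  let χ : Fin chevF4.rank → Eˣ := fun k => ξ ^ ((u k).val : ℤ)
  have hχs : χ ^ s = 1 := funext fun k => by
    show (ξ ^ ((u k).val : ℤ)) ^ s = 1
    rw [← zpow_natCast, ← zpow_mul, mul_comm, zpow_mul, zpow_natCast ξ s, orderOf_dvd_iff_pow_eq_one.1 hξ.dvd,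
      one_zpow]
  have hχ1 : χ ≠ 1 := by
    intro h
    refine hu0 (funext fun k => ?_)
    have h1 : ξ ^ ((u k).val : ℤ) = 1 := congrFun h k
    rw [zpow_natCast] at h1
    have h2 := orderOf_dvd_of_pow_eq_one h1
    rw [hξ, ← ZMod.natCast_eq_zero_iff, ZMod.natCast_zmod_val] at h2
    exact h2
  have hχeig : permAct hc π χ = χ ^ q := by
    funext k
    have h1 : chi χ (permMat hc π *ᵥ Pi.single k 1) = permAct hc π χ k := by
      rw [chi_permMat, chi_single, zpow_one]
    rw [← h1, Pi.pow_apply, chi_zpow_vec]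
    show _ = (ξ ^ ((u k).val : ℤ)) ^ q
    rw [← zpow_natCast _ q, ← zpow_mul, ← div_eq_one, div_eq_mul_inv, ← zpow_sub, ← orderOf_dvd_iff_zpow_eq_one,
      hξ, Matrix.mulVec_single_one, ← ZMod.intCast_zmod_eq_zero_iff_dvd]
    have h2 := congrFun huB k
    simp only [Matrix.vecMul, dotProduct, hB, map_sub, RingHom.mapMatrix_apply, Matrix.map_apply, Matrix.sub_apply,
      Matrix.scalar_apply, Matrix.diagonal_apply, mul_sub, Finset.sum_sub_distrib, Pi.zero_apply] at h2
    simp only [apply_ite (Int.castRingHom (ZMod s)), map_zero, mul_ite, mul_zero, Finset.sum_ite_eq',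
      Finset.mem_univ, if_true, eq_intCast, Int.cast_natCast] at h2
    simp only [dotProduct, Matrix.col_apply, Int.cast_sub, Int.cast_sum, Int.cast_mul, Int.cast_natCast,
      ZMod.natCast_zmod_val]
    linear_combination -h2
  have hχd : torus chevF4 T E χ ∈ chevF4.diagonalSubgroup E :=
    (mem_diagonal hc).2 (by
      obtain ⟨b, hb⟩ := hPar_surjective invCartan_spec (F := E) χ
      exact ⟨b, by rw [hb]⟩)
  have hcχ := hLX χ ((hact χ).symm.trans hχeig) fun t ht hk => (hregset t ht hk).elim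
  obtain ⟨z, hz⟩ := exists_descent hc hcomm ι σ (fun a => (hfix a).1) hσ invCartan_adj
    (Nat.coprime_one_left s) hg hχs hχd hcχ
  have hgz : glMap chevF4 ι (z : GL chevF4.Idx F) = Φ χ := by
    show _ = MulAut.conj g⁻¹ (torus chevF4 T E χ)
    rw [MulAut.conj_apply, inv_inv, hz]
  have hinj : Function.Injective fun y : ↥(chevF4.group F) => glMap chevF4 ι (y : GL chevF4.Idx F) :=
    fun x y h => Subtype.ext (glMap_injective ι h)
  have hzo : orderOf z = s := by
    rw [← orderOf_injective ((glMap chevF4 ι).comp (chevF4.group F).subtype) hinj z]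
    show orderOf (glMap chevF4 ι (z : GL chevF4.Idx F)) = s
    rw [hgz, orderOf_injective Φ hΦ]
    exact orderOf_eq_prime hχs hχ1
  have hyo : orderOf (y₁ : ↥(chevF4.group F)) = r := by
    refine orderOf_eq_prime (by rw [← SubmonoidClass.coe_pow, hy₁, OneMemClass.coe_one]) fun h => ?_
    refine hx1 (hΦ ?_)
    rw [hΦΨ₁, map_one, show y₁ = 1 from Subtype.ext h, map_one]
  have hcom : Commute (y₁ : ↥(chevF4.group F)) z := hinj (by
    show glMap chevF4 ι _ = glMap chevF4 ι _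
    rw [Subgroup.coe_mul, Subgroup.coe_mul, map_mul, map_mul, hgz, show
      glMap chevF4 ι (((y₁ : ↥(chevF4.group F))) : GL chevF4.Idx F) = Φ x₁ from hΦΨ₁.symm, ← map_mul, ← map_mul,
      mul_comm])
  refine ⟨(y₁ : ↥(chevF4.group F)) * z, ?_⟩
  rw [hcom.orderOf_mul_eq_mul_orderOf_of_coprime (by rw [hyo, hzo]; exact (Nat.coprime_primes hr' hs').2 hrs),
    hyo, hzo]

end

end CfsgLib.F4PrimeGraph
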