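import Cfsg.Agent.Lib.F4PrimeGraph.Weyl
import Cfsg.Agent.Lib.Chev.ParabolicCard
import Cfsg.Agent.Lib.Chev.OrderCases
import Cfsg.Agent.Lib.ChevCent.Basic

/-!
# Commuting subgroups of F4 of types C3 and A1 and the primes dividing their orders
-/

set_option autoImplicit false
set_option linter.unusedSectionVars false
set_option maxHeartbeats 400000

namespace CfsgLib.F4PrimeGraph

open Cfsg.Lie CfsgLib.Chev CfsgLib.ChevCent
open scoped Matrix

theorem card_sup_dvd {G : Type*} [Group G] (A B : Subgroup G) (h : B ≤ Subgroup.normalizer (A : Set G)) :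
    Nat.card ↥(A ⊔ B) ∣ Nat.card ↥A * Nat.card ↥B := by
  have hn : (A.subgroupOf (A ⊔ B)).Normal :=
    Subgroup.normal_subgroupOf_of_le_normalizer (sup_le Subgroup.le_normalizer h)
  rw [← Subgroup.card_mul_index (A.subgroupOf (A ⊔ B)),
    Nat.card_congr (Subgroup.subgroupOfEquivOfLe le_sup_left).toEquiv]
  refine Nat.mul_dvd_mul_left _ ?_
  have e : B.subgroupOf (A ⊔ B) ⊔ A.subgroupOf (A ⊔ B) = ⊤ := by
    rw [← Subgroup.subgroupOf_sup le_sup_right le_sup_left, sup_comm B A, Subgroup.subgroupOf_self]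
  rw [← Subgroup.relIndex_top_right, ← e, Subgroup.relIndex_sup_right,
    ← Nat.card_congr (Subgroup.subgroupOfEquivOfLe (le_sup_right : B ≤ A ⊔ B)).toEquiv]
  exact Subgroup.relIndex_dvd_card _ _

variable {D : ChevalleyDatum} {T : Tabs} {F : Type*} [Field F]

/-- the length series of a parabolic Weyl group divides the order of the group of its root subgroups -/
theorem wsum_dvd_card_uGen [Fintype F] (hc : Checked D T) (hcomm : CommOne D T) {J : Set ℕ}
    {JL : List (Fin D.rank)} (hJ : ∀ i : Fin D.rank, i ∈ JL ↔ (i : ℕ) ∈ J) :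
    wsum hc JL (Fintype.card F) ∣ Nat.card ↥(uGen D F (D.InRootSub J)) := by
  classical
  obtain ⟨hnorm, hdec, -⟩ := levi_decomposition hc (F := F) hcomm J
  have hU : Nat.card ↥(D.unipotentRadical F J) ∣ Fintype.card F ^ (D.nroots / 2) := by
    rw [← card_pos hc (F := F) hcomm]
    refine Subgroup.card_dvd_of_le ?_
    rw [unipotentRadical_eq hc, posUnipotent_eq hc]
    exact uGen_mono fun r _ h => h.1
  have hP : Nat.card ↥(D.parabolicSubgroup F J) ∣
      Nat.card ↥(D.unipotentRadical F J) * Nat.card ↥(D.leviSubgroup F J) := by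
    rw [← hdec]
    refine card_sup_dvd _ _ ?_
    rw [← hdec] at hnorm
    exact le_sup_right.trans hnorm
  have hL : Nat.card ↥(D.leviSubgroup F J) ∣
      Nat.card ↥(uGen D F (D.InRootSub J)) * Nat.card ↥(D.diagonalSubgroup F) := by
    rw [levi_eq hc, sup_comm]
    exact card_sup_dvd _ _ (diagonal_le_normalizer hc _)
  have h := hP.trans (Nat.mul_dvd_mul hU hL)
  rw [card_parabolic hc hcomm hJ,
    show Fintype.card F ^ (D.nroots / 2) * (Nat.card ↥(uGen D F (D.InRootSub J)) * Nat.card ↥(D.diagonalSubgroup F)) =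
      Fintype.card F ^ (D.nroots / 2) * Nat.card ↥(D.diagonalSubgroup F) * Nat.card ↥(uGen D F (D.InRootSub J)) by
        ring] at h
  exact (Nat.mul_dvd_mul_iff_left (Nat.mul_pos (pow_pos Fintype.card_pos _) Nat.card_pos)).1 h

theorem exists_torus_order [Fintype F] (hc : Checked D T) {P : ℕ → Prop} {j : Fin D.rank} {k : Fin D.rank}
    (hjk : D.cartan j (D.simple k) = -1) (hp : P (D.simple j)) (hn : P (D.neg (D.simple j))) {s : ℕ} [Fact s.Prime]
    (hs : s ∣ Fintype.card F - 1) : ∃ y ∈ uGen D F P, orderOf y = s := by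
  obtain ⟨t, ht⟩ := exists_prime_orderOf_dvd_card' (G := Fˣ) s
    (by rwa [Nat.card_units, Nat.card_eq_fintype_card])
  let φ : Fˣ →* GL D.Idx F :=
    (torus D T F).comp (MonoidHom.mk' (corChar D T (D.simple j)) (corChar_mul (D.simple j)))
  have hmem : φ t ∈ uGen D F P := by
    show torus D T F (corChar D T (D.simple j.val) t) ∈ _
    have h1 : ∀ u, elN D F (D.simple j.val) u ∈ uGen D F P := fun u =>
      elN_mem_of_roots hc (fun u => elX_mem_uGen (simple_lt hc j.2) hp u)
        (fun u => elX_mem_uGen (neg_lt hc (simple_lt hc j.2)) hn u) u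
    rw [← elH_eq_torus hc (simple_lt hc j.2)]
    exact mul_mem (h1 _) (h1 _)
  refine ⟨φ t, hmem, ?_⟩
  rw [orderOf_injective φ ?_, ht]
  rw [← MonoidHom.ker_eq_bot_iff, Subgroup.eq_bot_iff_forall]
  intro u hu
  have h2 : corChar D T (D.simple j.val) u = 1 :=
    torus_injective hc ((show torus D T F (corChar D T (D.simple j.val) u) = 1 from hu).trans (map_one _).symm)
  have h3 := chi_corChar_simple hc j (simple_lt hc k.2) u
  rw [h2, chi_one, hjk, zpow_neg, zpow_one] at h3
  exact inv_eq_one.1 h3.symm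

/-- roots of the subsystem of type C3 -/
def IsLow (s : ℕ) : Prop := chevF4.InRootSub {j | j < 3} s

/-- the highest root and its negative -/
def IsTop (s : ℕ) : Prop := s = 47 ∨ s = 0

theorem low_top_checks : ∀ r : Fin chevF4.nroots, (chevF4.coroot.getD r.val #[]).getD 3 0 = 0 →
    (r.val ≠ 47 ∧ r.val ≠ 0) ∧ (chevF4.commTerms r.val 47).length = 0 ∧ (chevF4.commTerms r.val 0).length = 0 ∧
      chevF4.neg r.val ≠ 47 ∧ chevF4.neg r.val ≠ 0 := by
  decide +kernel

theorem step_to_top :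
    ([3, 2, 1, 2, 0, 1, 2].foldr step 24 = 47) ∧ ([3, 2, 1, 2, 0, 1, 2].foldr step 23 = 0) := by
  decide +kernel

theorem single_roots : ∀ r : Fin chevF4.nroots, (chevF4.coroot.getD r.val #[]).getD 0 0 = 0 →
    (chevF4.coroot.getD r.val #[]).getD 1 0 = 0 → (chevF4.coroot.getD r.val #[]).getD 2 0 = 0 →
      r.val = 24 ∨ r.val = 23 := by
  decide +kernel

section
variable (hc : Checked chevF4 T) (hcomm : CommOne chevF4 T)
include hc

omit hc in
theorem coord_zero_of_low {r : ℕ} (h : IsLow r) : (chevF4.coroot.getD r #[]).getD 3 0 = 0 :=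
  h.2 3 (by decide) (by simp)

theorem sigs_foldr (L : List (Fin chevF4.rank)) {r : ℕ} (hr : r < chevF4.nroots) :
    sigs chevF4 T L r = (L.map Fin.val).foldr step r := by
  induction L with
  | nil => rfl
  | cons i L ih =>
    rw [List.map_cons, List.foldr_cons, ← ih, sigs_cons, ← reflectRoot_eq hc i (sigs_lt hc L hr)]
    exact rootTbl_spec i ⟨_, sigs_lt hc L hr⟩

theorem exists_low [Fintype F] (hcomm : CommOne chevF4 T) {q : ℕ} (hq : Fintype.card F = q) {s : ℕ}
    [Fact s.Prime] (hd : s ∣ q ^ 4 - 1 ∨ s ∣ q ^ 6 - 1) : ∃ y ∈ uGen chevF4 F IsLow, orderOf y = s := by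
  classical
  have hs := (Fact.out : s.Prime)
  by_cases h1 : s ∣ q - 1
  · exact exists_torus_order hc (j := (⟨0, by decide⟩ : Fin chevF4.rank)) (k := (⟨1, by decide⟩ : Fin chevF4.rank))
      (P := IsLow) (by decide +kernel) (simple_inRootSub hc (by decide))
      (inRootSub_neg hc (simple_lt hc (by decide)) (simple_inRootSub hc (by decide))) (hq ▸ h1)
  have hJ : ∀ i : Fin chevF4.rank, i ∈ [(⟨0, by decide⟩ : Fin chevF4.rank), (⟨1, by decide⟩ : Fin chevF4.rank),
      (⟨2, by decide⟩ : Fin chevF4.rank)] ↔ (i : ℕ) ∈ ({j | j < 3} : Set ℕ) := by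
    have : ∀ i : Fin 4, i ∈ [(⟨0, by decide⟩ : Fin 4), ⟨1, by decide⟩, ⟨2, by decide⟩] ↔ i.val < 3 := by decide
    exact this
  have s0 := wsum_step' hc cartF4 cartF4_eq ([] : List (Fin chevF4.rank)) ⟨0, by decide⟩
    (by decide) (m := 2) (by norm_num) [1, 1] (by decide +kernel) (Fintype.card F)
  have s1 := wsum_step' hc cartF4 cartF4_eq [(⟨0, by decide⟩ : Fin chevF4.rank)] ⟨1, by decide⟩
    (by decide) (m := 3) (by norm_num) [1, 1, 1] (by decide +kernel) (Fintype.card F)
  have s2 := wsum_step' hc cartF4 cartF4_eq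
    [(⟨0, by decide⟩ : Fin chevF4.rank), (⟨1, by decide⟩ : Fin chevF4.rank)] ⟨2, by decide⟩
    (by decide) (m := 7) (by norm_num) [1, 1, 1, 2, 1, 1, 1] (by decide +kernel) (Fintype.card F)
  simp only [List.cons_append, List.nil_append] at s0 s1 s2
  have h := wsum_dvd_card_uGen (F := F) hc hcomm hJ
  rw [s2, s1, s0, wsum_nil, mul_one, hq] at h
  have hq1 : 1 ≤ q := hq ▸ Fintype.card_pos
  have key : s ∣ polyEval [1, 1, 1, 2, 1, 1, 1] q * (polyEval [1, 1, 1] q * polyEval [1, 1] q) * (q - 1) ^ 3 := by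
    have e : polyEval [1, 1, 1, 2, 1, 1, 1] q * (polyEval [1, 1, 1] q * polyEval [1, 1] q) * (q - 1) ^ 3 =
        (q ^ 2 - 1) * ((q ^ 4 - 1) * (q ^ 6 - 1)) := by
      zify [Nat.one_le_pow _ q (by omega), hq1]
      simp only [polyEval]
      push_cast
      ring
    rw [e]
    refine dvd_mul_of_dvd_right ?_ _
    rcases hd with hd | hd
    · exact dvd_mul_of_dvd_left hd _
    · exact dvd_mul_of_dvd_right hd _
  have hdvd := ((hs.dvd_mul.1 key).resolve_right fun h' => h1 (hs.dvd_of_dvd_pow h')).trans h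
  obtain ⟨y, hy⟩ := exists_prime_orderOf_dvd_card' s hdvd
  exact ⟨y, y.2, by rw [Subgroup.orderOf_coe, hy]⟩

theorem exists_top [Fintype F] (hcomm : CommOne chevF4 T) {q : ℕ} (hq : Fintype.card F = q) {s : ℕ}
    [Fact s.Prime] (hd : s ∣ q ^ 2 - 1) : ∃ y ∈ uGen chevF4 F IsTop, orderOf y = s := by
  classical
  have hs := (Fact.out : s.Prime)
  set J : Set ℕ := {j | j = 3}
  obtain ⟨y, hy, hys⟩ : ∃ y ∈ uGen chevF4 F (chevF4.InRootSub J), orderOf y = s := by
    by_cases h1 : s ∣ q - 1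
    · exact exists_torus_order hc (j := (⟨3, by decide⟩ : Fin chevF4.rank)) (k := (⟨2, by decide⟩ : Fin chevF4.rank))
        (P := chevF4.InRootSub J) (by decide +kernel) (simple_inRootSub hc rfl)
        (inRootSub_neg hc (simple_lt hc (by decide)) (simple_inRootSub hc rfl)) (hq ▸ h1)
    have hJ : ∀ i : Fin chevF4.rank, i ∈ [(⟨3, by decide⟩ : Fin chevF4.rank)] ↔ (i : ℕ) ∈ J := by
      have : ∀ i : Fin 4, i ∈ [(⟨3, by decide⟩ : Fin 4)] ↔ i.val = 3 := by decide
      exact this
    have s3 := wsum_step' hc cartF4 cartF4_eq ([] : List (Fin chevF4.rank)) ⟨3, by decide⟩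
      (by decide) (m := 2) (by norm_num) [1, 1] (by decide +kernel) (Fintype.card F)
    simp only [List.nil_append] at s3
    have h := wsum_dvd_card_uGen (F := F) hc hcomm hJ
    rw [s3, wsum_nil, mul_one, hq] at h
    have hq1 : 1 ≤ q := hq ▸ Fintype.card_pos
    have key : s ∣ polyEval [1, 1] q * (q - 1) := by
      have e : polyEval [1, 1] q * (q - 1) = q ^ 2 - 1 := by
        zify [Nat.one_le_pow _ q (by omega), hq1]
        simp only [polyEval]
        push_cast
        ring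
      rw [e]; exact hd
    obtain ⟨y, hy⟩ := exists_prime_orderOf_dvd_card' s (((hs.dvd_mul.1 key).resolve_right h1).trans h)
    exact ⟨y, y.2, by rw [Subgroup.orderOf_coe, hy]⟩
  set L : List (Fin chevF4.rank) :=
    [⟨3, by decide⟩, ⟨2, by decide⟩, ⟨1, by decide⟩, ⟨2, by decide⟩, ⟨0, by decide⟩, ⟨1, by decide⟩, ⟨2, by decide⟩]
  have hle : uGen chevF4 F (chevF4.InRootSub J) ≤
      (uGen chevF4 F IsTop).comap (MulAut.conj (nProd chevF4 F L)).toMonoidHom := by
    rw [uGen_le_iff]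
    intro r hr hP t
    obtain ⟨c, -, hcx⟩ := nProd_conj_elX hc (F := F) L hr
    show nProd chevF4 F L * elX chevF4 F r t * (nProd chevF4 F L)⁻¹ ∈ uGen chevF4 F IsTop
    rw [hcx]
    refine elX_mem_uGen (sigs_lt hc L hr) ?_ _
    have h3 : ∀ i : ℕ, i < 3 → (chevF4.coroot.getD r #[]).getD i 0 = 0 := fun i hi =>
      hP.2 i (Nat.lt_succ_of_lt hi) (by simp [J]; omega)
    rw [sigs_foldr hc L hr]
    rcases single_roots ⟨r, hr⟩ (h3 0 (by norm_num)) (h3 1 (by norm_num)) (h3 2 (by norm_num)) with e | e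
    · left; rw [show r = 24 from e]; exact step_to_top.1
    · right; rw [show r = 23 from e]; exact step_to_top.2
  exact ⟨MulAut.conj (nProd chevF4 F L) y, hle hy, by rw [MulEquiv.orderOf_eq]; exact hys⟩

theorem exists_top_two [Fintype F] [CharP F 2] : ∃ y ∈ uGen chevF4 F IsTop, orderOf y = 2 := by
  have h47 : (47 : ℕ) < chevF4.nroots := by decide
  refine ⟨elX chevF4 F 47 1, elX_mem_uGen h47 (P := IsTop) (Or.inl rfl) 1, orderOf_eq_prime ?_ ?_⟩
  · rw [pow_two, elX_add hc F h47, CharTwo.add_self_eq_zero, elX_zero hc F h47]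
  · exact fun h => one_ne_zero ((elX_eq_one_iff hc h47 (1 : F)).1 h)

theorem low_le_centralizer (hcomm : CommOne chevF4 T) :
    uGen chevF4 F IsLow ≤ Subgroup.centralizer (uGen chevF4 F IsTop : Set (GL chevF4.Idx F)) := by
  rw [Subgroup.le_centralizer_iff, uGen_le_iff]
  intro r hr htop t
  rw [Subgroup.mem_centralizer_iff]
  intro y hy
  have hle : uGen chevF4 F IsLow ≤ Subgroup.centralizer {elX chevF4 F r t} := by
    rw [uGen_le_iff]
    intro s hs hlow u
    rw [Subgroup.mem_centralizer_singleton_iff]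
    obtain ⟨⟨h47, h0⟩, c1, c2, n1, n2⟩ := low_top_checks ⟨s, hs⟩ (coord_zero_of_low hlow)
    rcases htop with rfl | rfl
    · refine commute_elX hc hcomm hs hr (fun e => n1 e.symm) (fun q hq => ?_) u t
      rw [List.eq_nil_of_length_eq_zero c1] at hq
      simp at hq
    · refine commute_elX hc hcomm hs hr (fun e => n2 e.symm) (fun q hq => ?_) u t
      rw [List.eq_nil_of_length_eq_zero c2] at hq
      simp at hq
  exact Subgroup.mem_centralizer_singleton_iff.1 (hle hy)

theorem exists_order_mul [Fintype F] (hcomm : CommOne chevF4 T) {r s : ℕ} (hr : r.Prime) (hs : s.Prime)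
    (hrs : r ≠ s) {a b : GL chevF4.Idx F} (ha : a ∈ uGen chevF4 F IsTop) (hb : b ∈ uGen chevF4 F IsLow)
    (har : orderOf a = r) (hbs : orderOf b = s) : ∃ x : ↥(chevF4.group F), orderOf x = r * s := by
  have hcom : Commute a b := Subgroup.mem_centralizer_iff.1 (low_le_centralizer hc hcomm hb) a ha
  have hg : ∀ {P : ℕ → Prop}, uGen chevF4 F P ≤ chevF4.group F := fun {P} => by
    rw [group_eq hc]; exact uGen_mono fun _ _ _ => trivial
  refine ⟨⟨a * b, mul_mem (hg ha) (hg hb)⟩, ?_⟩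
  rw [← Subgroup.orderOf_coe, ← har, ← hbs]
  exact hcom.orderOf_mul_eq_mul_orderOf_of_coprime (by rw [har, hbs]; exact (Nat.coprime_primes hr hs).2 hrs)

end

end CfsgLib.F4PrimeGraph
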