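import Cfsg.Agent.Lib.ChevCent.EllipticTorus
import Cfsg.Agent.Lib.ChevCent.TorusSet
import Cfsg.Agent.Lib.Factor.NilpotentHall

/-!
# Abelian subgroups of exponent prime to the Weyl order: conjugation into a torus and the Weyl element
-/

set_option autoImplicit false
set_option linter.unusedSectionVars false

namespace CfsgLib.F4PrimeGraph

open Cfsg.Lie CfsgLib.Chev CfsgLib.ChevField CfsgLib.ChevCent Polynomial
open scoped Matrix Pointwise

variable {D : ChevalleyDatum} {T : Tabs} {F E : Type*} [Field F] [Field E]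

/-- a cyclotomic polynomial divides the characteristic polynomial of a matrix of finite order with an eigenvalue of
that order modulo `r` -/
theorem cyclotomic_dvd_charpoly {n : Type*} [Fintype n] [DecidableEq n] {A : Matrix n n ℤ} {N d r : ℕ}
    [Fact r.Prime] {q : ℤ} (hAN : A ^ N = 1) (hrN : ¬ r ∣ N) (hd : orderOf (q : ZMod r) = d)
    (hev : ∀ p : ℤ[X], Polynomial.aeval A p = 0 → ((p.eval q : ℤ) : ZMod r) = 0) :
    cyclotomic d ℤ ∣ A.charpoly := by
  classical
  have hN0 : 0 < N := Nat.pos_of_ne_zero fun h => hrN (h ▸ dvd_zero r)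
  have hqN : (q : ZMod r) ^ N = 1 := by
    have := hev (X ^ N - 1) (by simp [hAN])
    simpa [sub_eq_zero] using this
  have hdN : d ∣ N := hd ▸ orderOf_dvd_of_pow_eq_one hqN
  have hd0 : 0 < d := Nat.pos_of_dvd_of_pos hdN hN0
  set P : ℤ[X] := ∏ e ∈ N.divisors.erase d, cyclotomic e ℤ
  have hP : ((P.eval q : ℤ) : ZMod r) ≠ 0 := by
    rw [Polynomial.eval_prod, Int.cast_prod]
    refine Finset.prod_ne_zero_iff.2 fun e he h0 => ?_
    obtain ⟨hed, heN⟩ := Finset.mem_erase.1 he
    have hdvd := Nat.dvd_of_mem_divisors heN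
    haveI : NeZero (e : ZMod r) := ⟨fun h => hrN (((ZMod.natCast_eq_zero_iff _ r).1 h).trans hdvd)⟩
    have hroot : IsRoot (cyclotomic e (ZMod r)) (q : ZMod r) := by
      rw [← map_cyclotomic e (Int.castRingHom (ZMod r)), IsRoot, Polynomial.eval_intCast_map]
      exact h0
    exact hed ((isRoot_cyclotomic_iff.1 hroot).eq_orderOf.trans hd)
  set A' : Matrix n n ℚ := (Int.castRingHom ℚ).mapMatrix A with hA'
  have hann : Polynomial.aeval A' (X ^ N - 1 : ℚ[X]) = 0 := by
    rw [map_sub, aeval_X_pow, map_one, hA', ← map_pow, hAN, map_one, sub_self]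
  have hdvdμ : cyclotomic d ℚ ∣ minpoly ℚ A' := by
    by_contra h
    have hcop : IsCoprime (minpoly ℚ A') (cyclotomic d ℚ) :=
      ((cyclotomic.irreducible_rat hd0).coprime_iff_not_dvd.2 h).symm
    have hμ : minpoly ℚ A' ∣ (cyclotomic d ℚ) * P.map (Int.castRingHom ℚ) := by
      have e : (cyclotomic d ℚ) * P.map (Int.castRingHom ℚ) = X ^ N - 1 := by
        simp only [P, Polynomial.map_prod, map_cyclotomic]
        rw [Finset.mul_prod_erase _ (fun e => cyclotomic e ℚ) (Nat.mem_divisors.2 ⟨hdN, hN0.ne'⟩),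
          prod_cyclotomic_eq_X_pow_sub_one hN0]
      rw [e]; exact minpoly.dvd ℚ A' hann
    obtain ⟨c, hc⟩ := hcop.dvd_of_dvd_mul_left hμ
    have h0 : Polynomial.aeval A' (P.map (Int.castRingHom ℚ)) = 0 := by
      rw [hc, map_mul, minpoly.aeval, zero_mul]
    refine hP (hev P ?_)
    have h1 : (Int.castRingHom ℚ).mapMatrix (Polynomial.aeval A P) = 0 := by
      rw [← h0, hA', Polynomial.aeval_def, Polynomial.aeval_def, Polynomial.eval₂_map, Polynomial.hom_eval₂]
      exact congrArg (fun f => Polynomial.eval₂ f _ P) (RingHom.ext_int _ _)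
    exact Matrix.map_injective (f := fun z : ℤ => (z : ℚ)) Int.cast_injective
      (h1.trans (Matrix.map_zero _ Int.cast_zero).symm)
  refine (Polynomial.map_dvd_map (Int.castRingHom ℚ) Int.cast_injective (cyclotomic.monic d ℤ)).1 ?_
  rw [map_cyclotomic, ← Matrix.charpoly_map A (Int.castRingHom ℚ)]
  exact hdvdμ.trans (Matrix.minpoly_dvd_charpoly A')

section
variable (hc : Checked D T)
include hc

/-- an eigencharacter turns polynomials in the Weyl matrix into their values at the eigenvalue -/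
theorem chi_aeval {π : Equiv.Perm (Fin D.nroots)} {χ : Fin D.rank → Fˣ} {q : ℕ}
    (h : permAct hc π χ = χ ^ q) (p : ℤ[X]) (v : Fin D.rank → ℤ) :
    chi χ (aeval (permMat hc π) p *ᵥ v) = chi χ v ^ (p.eval (q : ℤ)) := by
  set A := permMat hc π
  have hA : ∀ v, chi χ (A *ᵥ v) = chi χ v ^ q := fun v => by rw [chi_permMat, h, chi_pow']
  induction p using Polynomial.induction_on' generalizing v with
  | add a b ha hb => rw [map_add, Matrix.add_mulVec, chi_add, ha, hb, eval_add, zpow_add]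
  | monomial i a =>
    have hi : ∀ i v, chi χ (A ^ i *ᵥ v) = chi χ v ^ q ^ i := by
      intro i
      induction i with
      | zero => intro v; simp
      | succ i ih => intro v; rw [pow_succ, ← Matrix.mulVec_mulVec, ih, hA, ← pow_mul, ← pow_succ']
    rw [aeval_monomial, Algebra.algebraMap_eq_smul_one, smul_mul_assoc, one_mul, Matrix.smul_mulVec, chi_smul,
      hi, eval_monomial, ← zpow_natCast, ← zpow_mul]
    congr 1
    push_cast; ring

/-- an annihilating polynomial kills the eigencharacters at the eigenvalue -/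
theorem pow_eval_eq_one {π : Equiv.Perm (Fin D.nroots)} {χ : Fin D.rank → Fˣ} {q : ℕ}
    (h : permAct hc π χ = χ ^ q) {p : ℤ[X]} (hp : aeval (permMat hc π) p = 0) :
    χ ^ (p.eval (q : ℤ)) = 1 := by
  funext j
  have h1 := chi_aeval hc h p (Pi.single j 1)
  rw [hp, Matrix.zero_mulVec, chi_zero, chi_single, zpow_one] at h1
  exact h1.symm

theorem eval_zero_of_eigen {π : Equiv.Perm (Fin D.nroots)} {χ : Fin D.rank → Fˣ} {q r : ℕ} [Fact r.Prime]
    (h : permAct hc π χ = χ ^ q) (hr : χ ^ r = 1) (h1 : χ ≠ 1) {p : ℤ[X]}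
    (hp : aeval (permMat hc π) p = 0) : ((p.eval (q : ℤ) : ℤ) : ZMod r) = 0 := by
  rw [ZMod.intCast_zmod_eq_zero_iff_dvd, ← orderOf_eq_prime hr h1]
  exact orderOf_dvd_iff_zpow_eq_one.2 (pow_eval_eq_one hc h hp)

theorem cyclotomic_dvd_of_eigen {π : Equiv.Perm (Fin D.nroots)} (hπ : π ∈ weylGrp hc) {χ : Fin D.rank → Fˣ}
    {q r : ℕ} [Fact r.Prime] (hW : ¬ r ∣ Nat.card ↥(weylGrp hc)) (h : permAct hc π χ = χ ^ q) (hr : χ ^ r = 1)
    (h1 : χ ≠ 1) : cyclotomic (orderOf (q : ZMod r)) ℤ ∣ (permMat hc π).charpoly := by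
  refine cyclotomic_dvd_charpoly (N := orderOf π) (r := r) (q := (q : ℤ)) ?_ ?_ ?_
    fun p hp => eval_zero_of_eigen hc h hr h1 hp
  · rw [← permMat_pow hc hπ, pow_orderOf_eq_one, permMat_one]
  · intro hd
    refine hW (hd.trans ?_)
    rw [← Nat.card_zpowers]
    exact Subgroup.card_dvd_of_le (Subgroup.zpowers_le.2 hπ)
  · rw [Int.cast_natCast]

end

section
variable (hc : Checked D T) (hcomm : CommOne D T)
include hc hcomm

/-- an abelian subgroup whose exponent `m` is a Hall divisor of `|E^*|` prime to the Weyl order is conjugate into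
the split torus over `E` -/
theorem exists_torus_conj_set [Fintype E] [Finite F] (ι : F →+* E) {m e : ℕ} (hm1 : 1 < m)
    (hm : Fintype.card E - 1 = m * e) (he : Nat.Coprime e m)
    {N : Fin D.rank → Fin D.rank → ℤ} {dd : ℕ}
    (hN : ∀ i j, ∑ k, N i k * cm D k j = if i = j then (dd : ℤ) else 0) (hdd : Nat.Coprime dd m)
    {J : List (Fin D.rank)} (hJ : ∀ i, i ∈ J) (hW : Nat.Coprime (wsum hc J 1) m) (hrank : 0 < D.rank)
    (K : Subgroup ↥(D.group F)) (hKm : ∀ y ∈ K, y ^ m = 1) :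
    ∃ g ∈ D.group E, ∀ y ∈ K, ∃ x : Fin D.rank → Eˣ, x ^ m = 1 ∧ torus D T E x ∈ D.diagonalSubgroup E ∧
      glMap D ι (y : GL D.Idx F) = g⁻¹ * torus D T E x * g := by
  classical
  haveI : NeZero m := ⟨by omega⟩
  have hQ1 : 1 ≤ Fintype.card E := Fintype.card_pos
  have hQ2 : 2 ≤ Fintype.card E := Fintype.one_lt_card
  have hcardU : Nat.card Eˣ = m * e := by rw [Nat.card_units, Nat.card_eq_fintype_card, hm]
  let S : Subgroup (Fin D.rank → Eˣ) := (powMonoidHom m).ker
  have hdiag : ∀ x ∈ S, torus D T E x ∈ D.diagonalSubgroup E := by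
    intro x hx
    obtain ⟨N', -, hN'⟩ := Nat.exists_mul_mod_eq_one_of_coprime hdd hm1
    refine (mem_diagonal hc).2 ⟨(fun i => ∏ l, x l ^ N l i) ^ N', ?_⟩
    rw [map_pow, hPar_pow_of_adj hc hN, ← pow_mul, pow_eq_pow_mod _ (show x ^ m = 1 from hx), hN', pow_one]
  let φ : ↥S →* ↥(D.group E) :=
    ((torus D T E).comp S.subtype).codRestrict _ fun x => diagonal_le_group hc (hdiag x x.2)
  have hφ : Function.Injective φ := fun x y h => Subtype.ext (torus_injective hc (congrArg Subtype.val h :))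
  have hcardS : Nat.card ↥S = m ^ D.rank := by
    let M0 : Subgroup Eˣ := (powMonoidHom m).ker
    let eqv : ↥S ≃ (Fin D.rank → ↥M0) :=
      { toFun := fun x i => ⟨x.1 i, congrFun x.2 i⟩
        invFun := fun f => ⟨fun i => (f i).1, funext fun i => (f i).2⟩
        left_inv := fun _ => rfl
        right_inv := fun _ => rfl }
    rw [Nat.card_congr eqv, Nat.card_fun, Nat.card_fin]
    congr 1
    rw [IsCyclic.card_powMonoidHom_ker, hcardU, Nat.gcd_comm, Nat.gcd_eq_left (dvd_mul_right m e)]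
  have hcardT : Nat.card ↥φ.range = m ^ D.rank := by
    rw [Nat.card_congr (MonoidHom.ofInjective hφ).symm.toEquiv, hcardS]
  have hTi : Nat.Coprime φ.range.index (m ^ D.rank) := by
    have hcG := card_group hc (F := E) hcomm hJ
    have hH : Nat.card ↥(D.diagonalSubgroup E) ∣ (m * e) ^ D.rank := by
      rw [diagonalSubgroup_eq hc, ← hcardU]
      refine (Subgroup.card_range_dvd _).trans ?_
      rw [Nat.card_fun, Nat.card_fin]
    have h1 := Subgroup.card_mul_index φ.range
    rw [hcardT, hcG] at h1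
    have h2 : φ.range.index ∣ Fintype.card E ^ (D.nroots / 2) * e ^ D.rank * wsum hc J (Fintype.card E) := by
      refine (Nat.mul_dvd_mul_iff_left (pow_pos (by omega : 0 < m) D.rank)).1 ?_
      rw [h1]
      refine (Nat.mul_dvd_mul_right (Nat.mul_dvd_mul_left _ hH) _).trans (dvd_of_eq ?_)
      rw [mul_pow]; ring
    have hQm : ((Fintype.card E : ℕ) : ZMod m) = 1 := by
      rw [show Fintype.card E = m * e + 1 by omega]; simp
    have hcQ : Nat.Coprime (Fintype.card E) m := by
      rw [← ZMod.isUnit_iff_coprime, hQm]; exact isUnit_one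
    have hcW : Nat.Coprime (wsum hc J (Fintype.card E)) m := by
      rw [← ZMod.isUnit_iff_coprime]
      have h4 : ((wsum hc J (Fintype.card E) : ℕ) : ZMod m) = ((wsum hc J 1 : ℕ) : ZMod m) := by
        simp only [wsum, Nat.cast_sum, Nat.cast_pow, hQm, Nat.cast_one]
      rw [h4, ZMod.isUnit_iff_coprime]
      exact hW
    exact (Nat.Coprime.coprime_dvd_left h2 (((hcQ.pow_left _).mul_left (he.pow_left _)).mul_left hcW)).pow_right _
  have hnil : Group.IsNilpotent ↥φ.range :=
    Group.nilpotent_of_surjective φ.rangeRestrict φ.rangeRestrict_surjective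
  let ψ : ↥K →* ↥(D.group E) :=
    (((glMap D ι).comp (D.group F).subtype).codRestrict (D.group E) fun x => glMap_group hc ι x.2).comp K.subtype
  have hK : ∀ p : ℕ, p.Prime → p ∣ Nat.card ↥ψ.range → p ∣ Nat.card ↥φ.range := by
    intro p hp hpd
    haveI := Fact.mk hp
    obtain ⟨y, hy⟩ := exists_prime_orderOf_dvd_card' p hpd
    obtain ⟨k, hk⟩ := y.2
    have h1 : y ^ m = 1 := Subtype.ext (by
      rw [SubmonoidClass.coe_pow, ← hk, ← map_pow, show k ^ m = 1 from Subtype.ext (hKm k k.2), map_one,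
        OneMemClass.coe_one])
    rw [hcardT, ← hy]
    exact (orderOf_dvd_of_pow_eq_one h1).trans (dvd_pow_self m hrank.ne')
  obtain ⟨g₀, hg₀⟩ := CfsgLib.Factor.exists_conj_le_of_nilpotent_hall (H := φ.range) (K := ψ.range) hnil
    (by rw [hcardT]; exact hTi.symm) hK
  refine ⟨((g₀⁻¹ : ↥(D.group E)) : GL D.Idx E), (g₀⁻¹).2, fun y hy => ?_⟩
  have h2 := hg₀ ⟨⟨y, hy⟩, rfl⟩
  rw [Subgroup.mem_pointwise_smul_iff_inv_smul_mem] at h2
  obtain ⟨x, hx⟩ := h2
  refine ⟨x.1, x.2, hdiag x.1 x.2, ?_⟩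
  have h3 : torus D T E x.1 = ((g₀⁻¹ : ↥(D.group E)) : GL D.Idx E) * glMap D ι (y : GL D.Idx F) *
      ((g₀⁻¹ : ↥(D.group E)) : GL D.Idx E)⁻¹ := by
    have h4 : φ x = g₀⁻¹ * ψ ⟨y, hy⟩ * g₀ := by
      rw [hx, ← map_inv, MulAut.smul_def, MulAut.conj_apply, inv_inv]
    have h5 := congrArg Subtype.val h4
    simp only [Subgroup.coe_mul, Subgroup.coe_inv] at h5 ⊢
    rw [inv_inv]
    exact h5
  rw [h3]
  group

omit hcomm in
/-- the Lang conjugate raises the torus elements of descended elements to the power `q` -/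
theorem twist_conj (ι : F →+* E) (σ : E →+* E) (hσι : ∀ a, σ (ι a) = ι a) {q : ℕ} (hσ : ∀ a, σ a = a ^ q)
    {g : GL D.Idx E} {y : GL D.Idx F} {x : Fin D.rank → Eˣ} (h : glMap D ι y = g⁻¹ * torus D T E x * g) :
    glMap D σ g * g⁻¹ * torus D T E x * (glMap D σ g * g⁻¹)⁻¹ = torus D T E (x ^ q) := by
  have hσt : glMap D σ (torus D T E x) = torus D T E (x ^ q) := by
    rw [glMap_torus]
    congr 1
    funext j
    exact Units.ext (hσ _)
  have h1 : glMap D σ (glMap D ι y) = glMap D ι y := by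
    ext i j; exact hσι _
  rw [h, map_mul, map_mul, map_inv, hσt] at h1
  calc glMap D σ g * g⁻¹ * torus D T E x * (glMap D σ g * g⁻¹)⁻¹
      = glMap D σ g * (g⁻¹ * torus D T E x * g) * (glMap D σ g)⁻¹ := by group
    _ = _ := by rw [← h1]; group

/-- a torus element which the Lang conjugate raises to the power `q` gives an element over the small field -/
theorem exists_descent (ι : F →+* E) (σ : E →+* E) (hfix : ∀ a, σ a = a → a ∈ Set.range ι) {q : ℕ}
    (hσ : ∀ a, σ a = a ^ q) {N : Fin D.rank → Fin D.rank → ℤ} {dd : ℕ}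
    (hN : ∀ i j, ∑ k, N i k * cm D k j = if i = j then (dd : ℤ) else 0) {m : ℕ} (hdd : Nat.Coprime dd m)
    {g : GL D.Idx E} (hg : g ∈ D.group E) {x : Fin D.rank → Eˣ} (hxm : x ^ m = 1)
    (hxd : torus D T E x ∈ D.diagonalSubgroup E)
    (hcx : glMap D σ g * g⁻¹ * torus D T E x * (glMap D σ g * g⁻¹)⁻¹ = torus D T E (x ^ q)) :
    ∃ y : ↥(D.group F), glMap D ι (y : GL D.Idx F) = g⁻¹ * torus D T E x * g := by
  have hσt : glMap D σ (torus D T E x) = torus D T E (x ^ q) := by
    rw [glMap_torus]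
    congr 1
    funext j
    exact Units.ext (hσ _)
  obtain ⟨w, hw, ew⟩ := fixed_descent' hc hcomm ι σ hfix hN hdd
    (mul_mem (mul_mem (inv_mem hg) (diagonal_le_group hc hxd)) hg)
    (by
      have h1 : g⁻¹ * torus D T E x * g = MulAut.conj g⁻¹ (torus D T E x) := by simp
      rw [h1, ← map_pow, ← map_pow, hxm, map_one, map_one])
    (by
      rw [map_mul, map_mul, map_inv, hσt, ← hcx]
      group)
  exact ⟨⟨w, hw⟩, ew⟩

end

end CfsgLib.F4PrimeGraph
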