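import Cfsg.Agent.Lib.F4PrimeGraph.Cert
import Cfsg.Agent.Lib.F4PrimeGraph.Torus
import Cfsg.Agent.Lib.ChevCent.CycTwelve

/-!
# The Weyl group of F4 as explicit matrices
-/

set_option autoImplicit false
set_option linter.unusedSectionVars false

set_option maxHeartbeats 400000

namespace CfsgLib.F4PrimeGraph

open Cfsg.Lie CfsgLib.Chev CfsgLib.ChevCent Polynomial
open scoped Matrix

theorem cyclotomic_three_eq : cyclotomic 3 ℤ = X ^ 2 + X + 1 := by
  haveI : Fact (Nat.Prime 3) := ⟨Nat.prime_three⟩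
  rw [cyclotomic_prime]
  simp [Finset.sum_range_succ]
  ring

theorem cyclotomic_four_eq : cyclotomic 4 ℤ = X ^ 2 + 1 := by
  rw [show 4 = 2 ^ (1 + 1) from rfl, cyclotomic_prime_pow_eq_geom_sum Nat.prime_two]
  simp [Finset.sum_range_succ]
  ring

theorem toMat_phi (X : M4) {a : ℕ} (ha : a = 3 ∨ a = 4 ∨ a = 6) :
    (X.phi a).toMat = aeval X.toMat (cyclotomic a ℤ) := by
  rcases ha with rfl | rfl | rfl
  · simp [M4.phi, M4.toMat_add, M4.toMat_mul, M4.toMat_one, cyclotomic_three_eq, pow_two]
  · simp [M4.phi, M4.toMat_add, M4.toMat_mul, M4.toMat_one, cyclotomic_four_eq, pow_two]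
  · simp [M4.phi, M4.toMat_add, M4.toMat_mul, M4.toMat_neg, M4.toMat_one, cyclotomic_six_eq, pow_two, sub_eq_add_neg]

theorem rootTbl_spec : ∀ i : Fin chevF4.rank, ∀ s : Fin chevF4.nroots, chevF4.reflectRoot i.val s.val = step i.val s.val := by
  decide +kernel

theorem rootTbl_lt : ∀ i : Fin 4, ∀ s : Fin 48, step i.val s.val < 48 := by decide +kernel

/-- the vector of a root in the table -/
def rootVec (s : ℕ) : Fin chevF4.rank → ℤ := vget (rootVecs.getD s (0, 0, 0, 0))

theorem rootVecs_simple : ∀ i j : Fin chevF4.rank,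
    decide (rootVec (chevF4.simple i.val) j = if j = i then 1 else 0) = true := by
  decide +kernel

theorem rootVecs_step : ∀ i : Fin chevF4.rank, ∀ s : Fin chevF4.nroots, ∀ j : Fin chevF4.rank,
    decide (rootVec (step i.val s.val) j = CfsgLib.Chev.refl chevF4 i (rootVec s.val) j) = true := by
  decide +kernel

/-- the images of the fundamental roots -/
noncomputable def stateOf (T : Tabs) (L : List (Fin chevF4.rank)) : ℕ × ℕ × ℕ × ℕ :=
  (sigs chevF4 T L 33, sigs chevF4 T L 27, sigs chevF4 T L 25, sigs chevF4 T L 24)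

/-- the matrix of a state -/
def sMat (s : ℕ × ℕ × ℕ × ℕ) : Matrix (Fin chevF4.rank) (Fin chevF4.rank) ℤ := (stateMat s).toMat

theorem aeval_good {X : M4} {a b : ℕ} (ha : a = 3 ∨ a = 4 ∨ a = 6) (hb : b = 3 ∨ b = 4 ∨ b = 6)
    (hgood : goodPair X a b = true) (h : aeval X.toMat (cyclotomic a ℤ * cyclotomic b ℤ) = 0) :
    aeval X.toMat (cyclotomic a ℤ) = 0 ∨ aeval X.toMat (cyclotomic b ℤ) = 0 := by
  rw [map_mul, ← toMat_phi _ ha, ← toMat_phi _ hb, ← M4.toMat_mul, ← M4.toMat_zero] at h
  simp only [goodPair, Bool.or_eq_true, decide_eq_true_eq] at hgood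
  rcases hgood with (h0 | h0) | h0
  · exact absurd (M4.toMat_injective h) h0
  · left; rw [← toMat_phi _ ha, h0]; exact M4.toMat_zero
  · right; rw [← toMat_phi _ hb, h0]; exact M4.toMat_zero

/-- the invariant form -/
def formMat : Matrix (Fin chevF4.rank) (Fin chevF4.rank) ℤ := formFour

theorem formMat_det : formMat.det ≠ 0 := formFour_det

theorem sMat_simple (i : Fin chevF4.rank) :
    (sMat (step i.val 33, step i.val 27, step i.val 25, step i.val 24))ᵀ * formMat *
        sMat (step i.val 33, step i.val 27, step i.val 25, step i.val 24) = formMat ∧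
      (sMat (step i.val 33, step i.val 27, step i.val 25, step i.val 24)).det = -1 :=
  formFour_simple i

section
variable {T : Tabs} (hc : Checked chevF4 T)
include hc

theorem rv_eq {s : ℕ} (hs : s < chevF4.nroots) : rv chevF4 T s = rootVec s := by
  refine root_induction hc (P := fun s => rv chevF4 T s = rootVec s) ?_ ?_ hs
  · intro i
    rw [rv_simple hc]
    funext j
    rw [of_decide_eq_true (rootVecs_simple i j), Pi.single_apply]
  · intro i s hs ih
    rw [rv_sig hc i hs, ih, ← reflectRoot_eq hc i hs, rootTbl_spec i ⟨s, hs⟩]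
    funext j
    exact (of_decide_eq_true (rootVecs_step i ⟨s, hs⟩ j)).symm

theorem stateOf_cons (i : Fin chevF4.rank) (L : List (Fin chevF4.rank)) :
    stateOf T (i :: L) = (step i.val (stateOf T L).1, step i.val (stateOf T L).2.1,
      step i.val (stateOf T L).2.2.1, step i.val (stateOf T L).2.2.2) := by
  have h : ∀ r, r < chevF4.nroots → sigs chevF4 T (i :: L) r = step i.val (sigs chevF4 T L r) := fun r hr => by
    rw [sigs_cons, ← reflectRoot_eq hc i (sigs_lt hc L hr)]
    exact rootTbl_spec i ⟨_, sigs_lt hc L hr⟩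
  simp only [stateOf]
  rw [h 33 (by decide), h 27 (by decide), h 25 (by decide), h 24 (by decide)]

theorem stateOf_mem (L : List (Fin chevF4.rank)) : inStates (stateOf T L) = true := by
  induction L with
  | nil => exact (show inStates (33, 27, 25, 24) = true by decide +kernel)
  | cons i L ih =>
    rw [stateOf_cons hc]
    have hn : chevF4.nroots = 48 := by decide
    set s := stateOf T L with hs
    have h1 : s.1 < 48 := hn ▸ sigs_lt hc L (by decide)
    have h2 : s.2.1 < 48 := hn ▸ sigs_lt hc L (by decide)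
    have h3 : s.2.2.1 < 48 := hn ▸ sigs_lt hc L (by decide)
    have h4 : s.2.2.2 < 48 := hn ▸ sigs_lt hc L (by decide)
    have h := closedStates_eq
    simp only [closedStates, List.all_eq_true, List.mem_range] at h
    have hmem : s.2.1 + 48 * s.2.2.1 + 2304 * s.2.2.2 ∈ weylStates.getD s.1 [] := by
      simpa [inStates] using ih
    have h5 := h s.1 h1 _ hmem i.val i.2
    have hd : decode s.1 (s.2.1 + 48 * s.2.2.1 + 2304 * s.2.2.2) = s := by
      simp only [decode]
      refine Prod.ext rfl (Prod.ext ?_ (Prod.ext ?_ ?_)) <;> dsimp only <;> omega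
    rw [hd] at h5
    exact h5

theorem permMat_eq (L : List (Fin chevF4.rank)) :
    permMat hc (permOf hc L) = sMat (stateOf T L) := by
  ext i j
  show rv chevF4 T (sigs chevF4 T L (chevF4.simple j.val)) i = _
  rw [rv_eq hc (sigs_lt hc L (simple_lt hc j.2))]
  fin_cases j <;> rfl

theorem permMat_good {π : Equiv.Perm (Fin chevF4.nroots)} (hπ : π ∈ weylGrp hc) {a b : ℕ}
    (hab : (a = 3 ∧ b = 4) ∨ (a = 3 ∧ b = 6) ∨ (a = 4 ∧ b = 6))
    (h : aeval (permMat hc π) (cyclotomic a ℤ * cyclotomic b ℤ) = 0) :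
    aeval (permMat hc π) (cyclotomic a ℤ) = 0 ∨ aeval (permMat hc π) (cyclotomic b ℤ) = 0 := by
  obtain ⟨L, rfl⟩ := hπ
  have ha : a = 3 ∨ a = 4 ∨ a = 6 := by omega
  have hb : b = 3 ∨ b = 4 ∨ b = 6 := by omega
  have hgood : goodPair (stateMat (stateOf T L)) a b = true := by
    have hn : chevF4.nroots = 48 := by decide
    set s := stateOf T L with hs
    have h1 : s.1 < 48 := hn ▸ sigs_lt hc L (by decide)
    have h2 : s.2.1 < 48 := hn ▸ sigs_lt hc L (by decide)
    have h3 : s.2.2.1 < 48 := hn ▸ sigs_lt hc L (by decide)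
    have h4 : s.2.2.2 < 48 := hn ▸ sigs_lt hc L (by decide)
    have h := goodStates_eq
    simp only [goodStates, List.all_eq_true, List.mem_range, Bool.and_eq_true] at h
    have hmem : s.2.1 + 48 * s.2.2.1 + 2304 * s.2.2.2 ∈ weylStates.getD s.1 [] := by
      simpa [inStates] using stateOf_mem hc L
    have h5 := h s.1 h1 _ hmem
    have hd : decode s.1 (s.2.1 + 48 * s.2.2.1 + 2304 * s.2.2.2) = s := by
      simp only [decode]
      refine Prod.ext rfl (Prod.ext ?_ (Prod.ext ?_ ?_)) <;> dsimp only <;> omega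
    rw [hd] at h5
    rcases hab with ⟨rfl, rfl⟩ | ⟨rfl, rfl⟩ | ⟨rfl, rfl⟩
    · exact h5.1
    · exact h5.2.1
    · exact h5.2.2
  rw [permMat_eq] at h ⊢
  exact aeval_good ha hb hgood h

theorem permMat_cons (i : Fin chevF4.rank) (L : List (Fin chevF4.rank)) :
    permMat hc (permOf hc (i :: L)) = permMat hc (permOf hc [i]) * permMat hc (permOf hc L) := by
  rw [← permMat_mul hc (π := permOf hc [i]) ⟨[i], rfl⟩]
  congr 1
  exact Equiv.ext fun r => Fin.ext (sigs_cons (T := T) i L r)

theorem permMat_form {π : Equiv.Perm (Fin chevF4.nroots)} (hπ : π ∈ weylGrp hc) :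
    (permMat hc π)ᵀ * formMat * permMat hc π = formMat := by
  obtain ⟨L, rfl⟩ := hπ
  induction L with
  | nil =>
    rw [show permOf hc ([] : List (Fin chevF4.rank)) = 1 from Equiv.ext fun r => Fin.ext rfl, permMat_one]
    simp
  | cons i L ih =>
    rw [permMat_cons hc]
    set A := permMat hc (permOf hc [i]) with hA
    set B := permMat hc (permOf hc L)
    have h1 : Aᵀ * formMat * A = formMat := by
      rw [hA, permMat_eq hc, stateOf_cons hc]
      exact (sMat_simple i).1
    calc (A * B)ᵀ * formMat * (A * B) = Bᵀ * (Aᵀ * formMat * A) * B := by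
          rw [Matrix.transpose_mul]; simp only [Matrix.mul_assoc]
      _ = formMat := by rw [h1, ih]

theorem exists_reflection_det {r : ℕ} (hr : r < chevF4.nroots) :
    ∃ π ∈ weylGrp hc, (permMat hc π).det = -1 ∧
      ∀ s : Fin chevF4.nroots, ∃ k : ℤ, rv chevF4 T (π s).val = rv chevF4 T s.val - k • rv chevF4 T r := by
  have key : ∃ (L : List (Fin chevF4.rank)) (i : Fin chevF4.rank), sigs chevF4 T L (chevF4.simple i.val) = r :=
    root_induction hc (P := fun r => ∃ (L : List (Fin chevF4.rank)) (i : Fin chevF4.rank),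
      sigs chevF4 T L (chevF4.simple i.val) = r)
      (fun i => ⟨[], i, rfl⟩) (fun i s _ ⟨L, j, e⟩ => ⟨i :: L, j, by rw [sigs_cons, e]⟩) hr
  obtain ⟨L, i, e⟩ := key
  refine ⟨permOf hc (L ++ i :: L.reverse), ⟨_, rfl⟩, ?_, fun s => ?_⟩
  · have e1 : permOf hc (L ++ i :: L.reverse) = permOf hc L * (permOf hc [i] * (permOf hc L)⁻¹) := by
      refine Equiv.ext fun r => Fin.ext ?_
      show sigs chevF4 T (L ++ i :: L.reverse) r.val = sigs chevF4 T L (sigs chevF4 T [i] (sigs chevF4 T L.reverse r.val))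
      rw [sigs_append, sigs_cons]
      rfl
    have hi : (permMat hc (permOf hc [i])).det = -1 := by
      rw [permMat_eq hc, stateOf_cons hc]
      exact (sMat_simple i).2
    have h1 : permMat hc (permOf hc L) * permMat hc (permOf hc L)⁻¹ = 1 := by
      rw [← permMat_mul hc ⟨L, rfl⟩, mul_inv_cancel, permMat_one]
    have h2 := congrArg Matrix.det h1
    rw [Matrix.det_mul, Matrix.det_one] at h2
    rw [e1, permMat_mul hc ⟨L, rfl⟩, permMat_mul hc ⟨[i], rfl⟩, Matrix.det_mul, Matrix.det_mul, hi]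
    linear_combination (-1 : ℤ) * h2
  · obtain ⟨k, hk⟩ := sigs_conj_simple hc L i s.2
    exact ⟨k, by rw [e] at hk; exact hk⟩

end

end CfsgLib.F4PrimeGraph
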